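import Cfsg.Agent.Lib.Solv.FourGen.Main
import Cfsg.Agent.Lib.Fusion.PGroupAux
import Cfsg.Agent.Lib.Solv.MaxClass

/-!
Tools for bounding the number of generators of the subgroups of a `2`-group: splitting along a
normal subgroup, fixed points of an involution, quotients with a small centralizer.
-/

set_option autoImplicit false
set_option linter.style.haveILetI false

namespace Cfsg.Agent.Solv.SelfCentEight

open FourGen

variable {G : Type*} [Group G]

/-- The part of `|H : sq H|` above `N`. -/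
noncomputable def second (N H : Subgroup G) : ℕ := ((sq H).subgroupOf H ⊔ N.subgroupOf H).index

theorem split (H N : Subgroup G) [N.Normal] :
    (sq H).relIndex H = (sq H).relIndex (H ⊓ N) * second N H := by
  set S := (sq H).subgroupOf H with hS
  haveI : S.Normal := ⟨fun x hx g => conj_mem_sq g.2 hx⟩
  haveI : (N.subgroupOf H).Normal := inferInstance
  change S.index = _
  rw [← Subgroup.relIndex_mul_index (le_sup_left : S ≤ S ⊔ N.subgroupOf H),
    Subgroup.relIndex_sup_left]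
  congr 1
  rw [← Subgroup.inf_subgroupOf_left, hS, Subgroup.relIndex_subgroupOf inf_le_left]

theorem second_eq_one {H N : Subgroup G} (h : H ≤ N) : second N H = 1 := by
  rw [second, Subgroup.subgroupOf_eq_top.2 h, sup_top_eq, Subgroup.index_top]

/-- The fixed points of `a` on an elementary abelian group it normalizes. -/
theorem fixed_map {X : Subgroup G} (hc : ∀ x ∈ X, ∀ y ∈ X, Commute x y)
    (he : ∀ x ∈ X, x ^ 2 = 1) {a : G} (hn : ∀ x ∈ X, a * x * a⁻¹ ∈ X)
    (ha : ∀ x ∈ X, Commute (a * a) x) :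
    ∃ R : Subgroup G, R ≤ X ⊓ Subgroup.centralizer {a} ∧
      Nat.card X = Nat.card (X ⊓ Subgroup.centralizer {a} : Subgroup G) * Nat.card R ∧
      (∀ x ∈ X, x * (a * x * a⁻¹) ∈ R) ∧ ∀ r ∈ R, ∃ x ∈ X, x * (a * x * a⁻¹) = r := by
  let δ : X →* X := MonoidHom.mk' (fun x => ⟨x.1 * (a * x.1 * a⁻¹), mul_mem x.2 (hn _ x.2)⟩)
    fun x y => Subtype.ext (by
      change x.1 * y.1 * (a * (x.1 * y.1) * a⁻¹) = x.1 * (a * x.1 * a⁻¹) * (y.1 * (a * y.1 * a⁻¹))
      rw [← conj_mul]
      exact Commute.mul_mul_mul_comm (hc _ y.2 _ (hn _ x.2)) _ _)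
  have hinv : ∀ x ∈ X, x⁻¹ = x := fun x hx =>
    inv_eq_of_mul_eq_one_left (by rw [← pow_two]; exact he x hx)
  have hker : Nat.card δ.ker = Nat.card (X ⊓ Subgroup.centralizer {a} : Subgroup G) := by
    refine Nat.card_congr ⟨fun x => ⟨x.1.1, x.1.2, Subgroup.mem_centralizer_singleton_iff.2 ?_⟩,
      fun y => ⟨⟨y.1, y.2.1⟩, MonoidHom.mem_ker.2 (Subtype.ext ?_)⟩, fun x => rfl, fun y => rfl⟩
    · have h : x.1.1 * (a * x.1.1 * a⁻¹) = 1 :=
        congrArg Subtype.val (MonoidHom.mem_ker.1 x.2)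
      have h' := eq_inv_of_mul_eq_one_right h
      rw [hinv _ x.1.2, mul_inv_eq_iff_eq_mul] at h'
      exact h'.symm
    · change y.1 * (a * y.1 * a⁻¹) = 1
      rw [← Subgroup.mem_centralizer_singleton_iff.1 y.2.2, mul_inv_cancel_right, ← pow_two]
      exact he _ y.2.1
  refine ⟨δ.range.map X.subtype, ?_, ?_, fun x hx => ⟨δ ⟨x, hx⟩, ⟨_, rfl⟩, rfl⟩, ?_⟩
  · rintro _ ⟨_, ⟨x, rfl⟩, rfl⟩
    refine ⟨(δ x).2, Subgroup.mem_centralizer_singleton_iff.2 ?_⟩
    change x.1 * (a * x.1 * a⁻¹) * a = a * (x.1 * (a * x.1 * a⁻¹))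
    have h2 : (a * a) * x.1 * (a * a)⁻¹ = x.1 := by rw [(ha _ x.2).eq, mul_inv_cancel_right]
    symm
    calc a * (x.1 * (a * x.1 * a⁻¹))
        = (a * x.1 * a⁻¹) * ((a * a) * x.1 * (a * a)⁻¹) * a := by group
      _ = (a * x.1 * a⁻¹) * x.1 * a := by rw [h2]
      _ = _ := by rw [(hc _ (hn _ x.2) _ x.2).eq]
  · rw [Subgroup.card_map_of_injective X.subtype_injective, ← hker, ← Subgroup.index_ker δ]
    exact δ.ker.card_mul_index.symm
  · rintro _ ⟨_, ⟨x, rfl⟩, rfl⟩
    exact ⟨x.1, x.2, rfl⟩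

variable [Finite G]

/-- An involution fixes at least the square root. -/
theorem fixed_sq {X : Subgroup G} (hc : ∀ x ∈ X, ∀ y ∈ X, Commute x y)
    (he : ∀ x ∈ X, x ^ 2 = 1) {a : G} (hn : ∀ x ∈ X, a * x * a⁻¹ ∈ X)
    (ha : ∀ x ∈ X, Commute (a * a) x) :
    Nat.card X ≤ Nat.card (X ⊓ Subgroup.centralizer {a} : Subgroup G) *
      Nat.card (X ⊓ Subgroup.centralizer {a} : Subgroup G) := by
  obtain ⟨R, hR, hcard, -⟩ := fixed_map hc he hn ha
  rw [hcard]
  exact Nat.mul_le_mul_left _ (Subgroup.card_le_of_le hR)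

/-- A step of a central series between two normal subgroups, inside a subgroup. -/
theorem exists_step (h2 : IsPGroup 2 G) (P M N : Subgroup G) [M.Normal] [N.Normal]
    (h : ∃ x, x ∈ M ∧ x ∈ P ∧ x ∉ N) :
    ∃ m, m ∈ M ∧ m ∈ P ∧ m ∉ N ∧ m ^ 2 ∈ N ∧ ∀ g ∈ P, m⁻¹ * (g * m * g⁻¹) ∈ N := by
  haveI := Fact.mk Nat.prime_two
  obtain ⟨x, hxM, hxP, hxN⟩ := h
  set π := QuotientGroup.mk' (N.subgroupOf P) with hπ
  set Mb := (M.subgroupOf P).map π with hMb
  haveI : Mb.Normal := Subgroup.Normal.map inferInstance _ (QuotientGroup.mk'_surjective _)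
  have hne : Mb ≠ ⊥ := by
    intro hb
    have hx : π ⟨x, hxP⟩ ∈ Mb := ⟨_, Subgroup.mem_subgroupOf.2 hxM, rfl⟩
    rw [hb, Subgroup.mem_bot, hπ, QuotientGroup.mk'_apply, QuotientGroup.eq_one_iff] at hx
    exact hxN hx
  have hQ := (h2.to_subgroup P).to_quotient (N.subgroupOf P)
  obtain ⟨y, hyM, hy1, hyZ⟩ := Fusion.exists_central_of_normal hQ Mb hne
  obtain ⟨k, hk⟩ := IsPGroup.iff_orderOf.1 hQ y
  have hk0 : k ≠ 0 := fun h0 => hy1 (orderOf_eq_one_iff.1 (by rw [hk, h0, pow_zero]))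
  set w := y ^ 2 ^ (k - 1) with hw
  have hw1 : w ≠ 1 := by
    intro h0
    have h1 := orderOf_dvd_of_pow_eq_one h0
    rw [hk, Nat.pow_dvd_pow_iff_le_right (by norm_num)] at h1
    omega
  have hw2 : w ^ 2 = 1 := by
    rw [hw, ← pow_mul, ← pow_succ, Nat.sub_add_cancel (by omega), ← hk]
    exact pow_orderOf_eq_one y
  obtain ⟨m, hm, hmw⟩ := pow_mem hyM (2 ^ (k - 1))
  change π m = w at hmw
  have hwZ : w ∈ Subgroup.center _ := pow_mem hyZ _
  refine ⟨m.1, hm, m.2, fun hN => hw1 ?_, ?_, fun g hg => ?_⟩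
  · rw [← hmw, hπ, QuotientGroup.mk'_apply, QuotientGroup.eq_one_iff]
    exact hN
  · have h1 : π (m ^ 2) = 1 := by rw [map_pow, hmw, hw2]
    rw [hπ, QuotientGroup.mk'_apply, QuotientGroup.eq_one_iff] at h1
    exact h1
  · have h1 : π (m⁻¹ * (⟨g, hg⟩ * m * ⟨g, hg⟩⁻¹)) = 1 := by
      rw [map_mul, map_mul, map_mul, map_inv, map_inv, hmw, Subgroup.mem_center_iff.1 hwZ,
        mul_inv_cancel_right, inv_mul_cancel]
    rw [hπ, QuotientGroup.mk'_apply, QuotientGroup.eq_one_iff] at h1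
    exact h1

omit [Finite G] in
/-- A self-centralizing subgroup of order at most four gives a small centralizer. -/
theorem exists_small [Finite G] (h2 : IsPGroup 2 G) {V : Subgroup G} (hV : Nat.card V ≤ 4)
    (hc : ∀ x ∈ V, ∀ y ∈ V, Commute x y) (hC : Subgroup.centralizer (V : Set G) ≤ V) :
    ∃ t : G, Nat.card (Subgroup.centralizer ({t} : Set G)) ≤ 4 := by
  haveI := Fact.mk Nat.prime_two
  by_cases hVZ : V ≤ Subgroup.center G
  · refine ⟨1, ((Subgroup.card_le_of_le (fun g _ => hC ?_)).trans hV)⟩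
    exact Subgroup.mem_centralizer_iff.2 fun v hv => (Subgroup.mem_center_iff.1 (hVZ hv) g).symm
  obtain ⟨t, htV, htZ⟩ := SetLike.not_le_iff_exists.1 hVZ
  haveI : Nontrivial G := ⟨⟨t, 1, fun h => htZ (h ▸ one_mem _)⟩⟩
  have hZV : Subgroup.center G ≤ V := (Subgroup.center_le_centralizer _).trans hC
  refine ⟨t, ((Subgroup.card_le_of_le fun g hg => hC ?_).trans hV)⟩
  have hlt : Subgroup.center G ⊔ Subgroup.zpowers t = V := by
    refine Subgroup.eq_of_le_of_card_ge (sup_le hZV (Subgroup.zpowers_le.2 htV)) ?_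
    haveI := h2.center_nontrivial
    have h1 : 1 < Nat.card (Subgroup.center G) := Finite.one_lt_card
    have hle : Subgroup.center G ≤ Subgroup.center G ⊔ Subgroup.zpowers t := le_sup_left
    obtain ⟨i, hi⟩ := IsPGroup.iff_card.1 (h2.to_subgroup (Subgroup.center G ⊔ Subgroup.zpowers t))
    have hlt : Nat.card (Subgroup.center G) <
        Nat.card (Subgroup.center G ⊔ Subgroup.zpowers t : Subgroup G) :=
      (Subgroup.card_le_of_le hle).lt_of_ne fun he => htZ
        ((Subgroup.eq_of_le_of_card_ge hle he.ge).symm ▸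
          Subgroup.mem_sup_right (Subgroup.mem_zpowers t))
    rw [hi] at hlt ⊢
    have hi2 : 2 ≤ i := by
      by_contra hi'
      have := Nat.pow_le_pow_right (show 0 < 2 by norm_num) (show i ≤ 1 by omega)
      omega
    exact hV.trans (Nat.pow_le_pow_right (show 0 < 2 by norm_num) hi2)
  have hle : V ≤ Subgroup.centralizer {g} := by
    rw [← hlt]
    exact sup_le (Subgroup.center_le_centralizer _) (Subgroup.zpowers_le.2
      (Subgroup.mem_centralizer_singleton_iff.2 (Subgroup.mem_centralizer_singleton_iff.1 hg).symm))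
  exact Subgroup.mem_centralizer_iff.2 fun v hv =>
    Subgroup.mem_centralizer_singleton_iff.1 (hle hv)

/-- A small centralizer gives a cyclic subgroup of index at most two. -/
theorem exists_cyclic {Q : Type*} [Group Q] [Finite Q] [Nontrivial Q] (h2 : IsPGroup 2 Q) {t : Q}
    (ht : Nat.card (Subgroup.centralizer ({t} : Set Q)) ≤ 4) :
    ∃ y : Q, y ≠ 1 ∧ (Subgroup.zpowers y).index ≤ 2 := by
  haveI := Fact.mk Nat.prime_two
  obtain ⟨n, hn⟩ := IsPGroup.iff_card.1 h2
  have h1 : 1 < Nat.card Q := Finite.one_lt_card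
  rcases (show n ≤ 2 ∨ ∃ m, n = m + 3 from
    (le_or_gt n 2).imp id fun h => ⟨n - 3, by omega⟩) with hn2 | ⟨m, rfl⟩
  · obtain ⟨y, hy⟩ := exists_ne (1 : Q)
    refine ⟨y, hy, ?_⟩
    have h4 : Nat.card Q ≤ 4 := hn ▸ Nat.pow_le_pow_right (show 0 < 2 by norm_num) hn2
    have hy2 : 2 ≤ Nat.card (Subgroup.zpowers y) := by
      rw [Nat.card_zpowers]
      have := orderOf_pos y
      have : orderOf y ≠ 1 := fun h => hy (orderOf_eq_one_iff.1 h)
      omega
    by_contra hgt
    have := Nat.mul_le_mul hy2 (show 3 ≤ (Subgroup.zpowers y).index by omega)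
    rw [Subgroup.card_mul_index] at this
    omega
  · have hne := Solv.lcs_ne_bot_of_small_centralizer (p := 2) (m + 1) hn ⟨t, ht⟩
    obtain ⟨y, hy⟩ := Solv.exists_cyclic_index_two m hn hne
    refine ⟨y, fun h => ?_, ?_⟩
    · rw [h, orderOf_one] at hy
      have := Nat.one_lt_two_pow (show m + 2 ≠ 0 by omega)
      omega
    · have h := (Subgroup.zpowers y).card_mul_index
      rw [Nat.card_zpowers, hy, hn, show 2 ^ (m + 3) = 2 ^ (m + 2) * 2 by rw [← pow_succ]] at h
      exact (Nat.eq_of_mul_eq_mul_left (Nat.two_pow_pos _) h).le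

/-- The quotient by `N` has a central involution `c` lying in all subgroups needing two generators,
and none needs three. -/
def Thin (N : Subgroup G) (c : G) : Prop :=
  c ∉ N ∧ c ^ 2 ∈ N ∧ (∀ g, c⁻¹ * (g * c * g⁻¹) ∈ N) ∧
    ∀ H, second N H ≤ 4 ∧ (second N H ≤ 2 ∨ ∃ h ∈ H, c⁻¹ * h ∈ N)

theorem exists_thin (h2 : IsPGroup 2 G) (N : Subgroup G) [N.Normal] (hN : N ≠ ⊤)
    (ht : ∃ t : G ⧸ N, Nat.card (Subgroup.centralizer ({t} : Set (G ⧸ N))) ≤ 4) :
    ∃ c, Thin N c := by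
  haveI := Fact.mk Nat.prime_two
  haveI : Nontrivial (G ⧸ N) := QuotientGroup.nontrivial_iff.2 hN
  obtain ⟨t, ht⟩ := ht
  have hQ := h2.to_quotient N
  obtain ⟨y, hy1, hyi⟩ := exists_cyclic hQ ht
  set R := Subgroup.zpowers y with hR
  obtain ⟨k, hk⟩ := IsPGroup.iff_orderOf.1 hQ y
  have hk0 : k ≠ 0 := fun h0 => hy1 (orderOf_eq_one_iff.1 (by rw [hk, h0, pow_zero]))
  set w := y ^ 2 ^ (k - 1) with hw
  have hw1 : w ≠ 1 := by
    intro h0
    have h1 := orderOf_dvd_of_pow_eq_one h0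
    rw [hk, Nat.pow_dvd_pow_iff_le_right (by norm_num)] at h1
    omega
  have hw2 : w ^ 2 = 1 := by
    rw [hw, ← pow_mul, ← pow_succ, Nat.sub_add_cancel (by omega), ← hk]
    exact pow_orderOf_eq_one y
  have hwR : w ∈ R := pow_mem (Subgroup.mem_zpowers y) _
  have huniq : ∀ u ∈ R, u ^ 2 = 1 → u ≠ 1 → u = w := by
    intro u hu hu2 hu1
    classical
    haveI : Fintype R := Fintype.ofFinite R
    by_contra hne
    have h := IsCyclic.card_pow_eq_one_le (α := R) (show 0 < 2 by norm_num)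
    have hsub : ({1, ⟨u, hu⟩, ⟨w, hwR⟩} : Finset R) ⊆
        Finset.univ.filter fun a : R => a ^ 2 = 1 := by
      intro a ha
      simp only [Finset.mem_insert, Finset.mem_singleton] at ha
      simp only [Finset.mem_filter, Finset.mem_univ, true_and]
      rcases ha with rfl | rfl | rfl
      · exact one_pow 2
      · exact Subtype.ext hu2
      · exact Subtype.ext hw2
    have h3 := (Finset.card_le_card hsub).trans h
    rw [Finset.card_eq_three.2 ⟨(1 : R), ⟨u, hu⟩, ⟨w, hwR⟩,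
      fun h => hu1 (congrArg Subtype.val h).symm, fun h => hw1 (congrArg Subtype.val h).symm,
      fun h => hne (congrArg Subtype.val h), rfl⟩] at h3
    omega
  haveI : R.Normal := by
    rcases (show R.index = 1 ∨ R.index = 2 by
      have := Subgroup.index_ne_zero_of_finite (H := R)
      omega) with h | h
    · rw [Subgroup.index_eq_one.1 h]; infer_instance
    · exact Subgroup.normal_of_index_eq_two h
  set π := QuotientGroup.mk' N with hπ
  have hπN : ∀ g, π g = 1 ↔ g ∈ N := fun g => QuotientGroup.eq_one_iff g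
  obtain ⟨c, hc⟩ := QuotientGroup.mk'_surjective N w
  change π c = w at hc
  refine ⟨c, fun h => hw1 (hc ▸ (hπN c).2 h), (hπN _).1 (by rw [map_pow, hc, hw2]), fun g => ?_,
    fun H => ?_⟩
  · rw [← hπN, map_mul, map_mul, map_mul, map_inv, map_inv, hc]
    rw [huniq (π g * w * (π g)⁻¹) (Subgroup.Normal.conj_mem inferInstance _ hwR _)
      (by rw [conj_pow, hw2, mul_one, mul_inv_cancel]) (fun h => hw1 (conj_eq_one_iff.1 h)),
      inv_mul_cancel]
  set S := (sq H).subgroupOf H ⊔ N.subgroupOf H with hS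
  set J := (R.comap π).subgroupOf H with hJ
  have hJi : J.index ≤ 2 := by
    have h1 : (R.comap π).index = R.index :=
      Subgroup.index_comap_of_surjective _ (QuotientGroup.mk'_surjective N)
    exact (Nat.le_of_dvd (Nat.pos_of_ne_zero Subgroup.index_ne_zero_of_finite)
      (Subgroup.relIndex_dvd_index_of_normal (R.comap π) H)).trans (h1.le.trans hyi)
  have hind : S.index ≤ S.relIndex J * J.index := by
    rw [← Subgroup.inf_relIndex_right, Subgroup.relIndex_mul_index inf_le_right]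
    exact Nat.le_of_dvd (Nat.pos_of_ne_zero Subgroup.index_ne_zero_of_finite)
      (Subgroup.index_dvd_of_le inf_le_left)
  change S.index ≤ 4 ∧ (S.index ≤ 2 ∨ _)
  set f : J →* G ⧸ N := π.comp (H.subtype.comp J.subtype) with hf
  have hfR : f.range ≤ R := by
    rintro _ ⟨j, rfl⟩
    exact j.2
  obtain ⟨v, hv⟩ : ∃ v, f.range = Subgroup.zpowers v := by
    haveI : IsCyclic f.range :=
      isCyclic_of_injective (Subgroup.inclusion hfR) (Subgroup.inclusion_injective hfR)
    exact (f.range.isCyclic_iff_exists_zpowers_eq_top.1 inferInstance).imp fun v h => h.symm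
  by_cases hv1 : v = 1
  · have hJS : S.relIndex J = 1 := by
      refine Subgroup.relIndex_eq_one.2 fun j hj => Subgroup.mem_sup_right ?_
      have : f ⟨j, hj⟩ ∈ Subgroup.zpowers v := hv ▸ ⟨_, rfl⟩
      rw [hv1, Subgroup.zpowers_one_eq_bot, Subgroup.mem_bot] at this
      exact (hπN _).1 this
    rw [hJS, one_mul] at hind
    exact ⟨by omega, Or.inl (by omega)⟩
  obtain ⟨j, hj⟩ : v ∈ f.range := hv ▸ Subgroup.mem_zpowers v
  have hJS : S.relIndex J ≤ 2 := by
    haveI : S.Normal := by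
      haveI : ((sq H).subgroupOf H).Normal := ⟨fun x hx g => conj_mem_sq g.2 hx⟩
      rw [hS]
      infer_instance
    let q : Bool → J ⧸ S.subgroupOf J := fun b => cond b ↑(1 : J) ↑j
    refine (Nat.card_le_card_of_surjective q fun x => ?_).trans
      (by rw [Nat.card_eq_fintype_card (α := Bool), Fintype.card_bool])
    induction x using QuotientGroup.induction_on with | _ g => ?_
    obtain ⟨i, hi⟩ : f g ∈ Subgroup.zpowers (f j) := by rw [hj, ← hv]; exact ⟨g, rfl⟩
    change (f j) ^ i = f g at hi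
    have hgi : ((j ^ i)⁻¹ * g : J).1 ∈ S := by
      refine Subgroup.mem_sup_right (Subgroup.mem_subgroupOf.2 ((hπN _).1 ?_))
      change f ((j ^ i)⁻¹ * g) = 1
      rw [map_mul, map_inv, map_zpow, hi, inv_mul_cancel]
    have hj2 : ∀ l : ℤ, ((j ^ (2 * l) : J)).1 ∈ S := fun l => by
      rw [zpow_mul, zpow_two, ← pow_two]
      refine zpow_mem (K := S.subgroupOf J) ?_ l
      exact Subgroup.mem_sup_left (Subgroup.mem_subgroupOf.2 (sq_mem j.1.2))
    obtain ⟨l, rfl | rfl⟩ := Int.even_or_odd' i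
    · refine ⟨true, QuotientGroup.eq.2 (Subgroup.mem_subgroupOf.2 ?_)⟩
      have := mul_mem (hj2 l) hgi
      rw [← Subgroup.coe_mul, mul_inv_cancel_left] at this
      rw [inv_one, one_mul]
      exact this
    · refine ⟨false, QuotientGroup.eq.2 (Subgroup.mem_subgroupOf.2 ?_)⟩
      have := mul_mem (hj2 l) hgi
      rwa [← Subgroup.coe_mul, show j ^ (2 * l) * ((j ^ (2 * l + 1))⁻¹ * g) = j⁻¹ * g by group]
        at this
  refine ⟨hind.trans (Nat.mul_le_mul hJS hJi), Or.inr ?_⟩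
  obtain ⟨i, hi⟩ := IsPGroup.iff_orderOf.1 hQ v
  have hi0 : i ≠ 0 := fun h0 => hv1 (orderOf_eq_one_iff.1 (by rw [hi, h0, pow_zero]))
  have h := huniq (v ^ 2 ^ (i - 1)) (pow_mem (hfR (hj ▸ ⟨j, rfl⟩)) _)
    (by rw [← pow_mul, ← pow_succ, Nat.sub_add_cancel (by omega), ← hi]; exact pow_orderOf_eq_one v)
    (fun h0 => by
      have h1 := orderOf_dvd_of_pow_eq_one h0
      rw [hi, Nat.pow_dvd_pow_iff_le_right (by norm_num)] at h1
      omega)
  refine ⟨_, ((j ^ 2 ^ (i - 1) : J)).1.2, (hπN _).1 ?_⟩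
  change π (c⁻¹ * ((j ^ 2 ^ (i - 1) : J)).1.1) = 1
  rw [map_mul, map_inv, hc, show π ((j ^ 2 ^ (i - 1) : J)).1.1 = f (j ^ 2 ^ (i - 1)) from rfl,
    map_pow, hj, h, inv_mul_cancel]

omit [Finite G] in
/-- Elementary abelian sections, from the bound on the squares. -/
theorem sectional [Finite G] (h : ∀ K : Subgroup G, (sq K).relIndex K ≤ 16) :
    Cfsg.SectionalPRankLE 2 4 G := by
  intro H N _ A _ hexp
  set K := (A.comap (QuotientGroup.mk' N)).map H.subtype with hK
  have hKH : K ≤ H := Subgroup.map_subtype_le _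
  let f : K →* H ⧸ N := (QuotientGroup.mk' N).comp (Subgroup.inclusion hKH)
  have hmem : ∀ x : K, f x ∈ A := by
    rintro ⟨_, y, hy, rfl⟩
    exact hy
  have hrange : A ≤ f.range := by
    intro a ha
    obtain ⟨y, rfl⟩ := QuotientGroup.mk'_surjective N a
    exact ⟨⟨y.1, y, ha, rfl⟩, rfl⟩
  have hle : (sq K).subgroupOf K ≤ f.ker := by
    intro x hx
    have h : sq K ≤ f.ker.map K.subtype := by
      rw [FourGen.sq, Subgroup.closure_le]
      rintro _ ⟨t, ht, rfl⟩
      exact ⟨⟨t, ht⟩ ^ 2, MonoidHom.mem_ker.2 (by rw [map_pow]; exact hexp _ (hmem _)), rfl⟩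
    obtain ⟨y, hy, hyx⟩ := h (Subgroup.mem_subgroupOf.1 hx)
    rwa [Subtype.ext hyx.symm]
  calc Nat.card A ≤ Nat.card f.range := Subgroup.card_le_of_le hrange
    _ = f.ker.index := (Subgroup.index_ker f).symm
    _ ≤ ((sq K).subgroupOf K).index :=
      Nat.le_of_dvd (Nat.pos_of_ne_zero Subgroup.index_ne_zero_of_finite)
        (Subgroup.index_dvd_of_le hle)
    _ ≤ 2 ^ 4 := h K

end Cfsg.Agent.Solv.SelfCentEight
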