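import Cfsg.Agent.Lib.Solv.SelfCentEight.Basic

/-!
The bound on the generators of the subgroups, for a normal elementary abelian subgroup of order
eight or sixteen and an involution with few fixed points on it.
-/

set_option autoImplicit false
set_option linter.style.haveILetI false

namespace Cfsg.Agent.Solv.SelfCentEight

variable {G : Type*} [Group G] [Finite G] (h2 : IsPGroup 2 G)

omit [Finite G] in
theorem mem_centralizer' {X : Subgroup G} {g : G} :
    g ∈ Subgroup.centralizer (X : Set G) ↔ ∀ x ∈ X, Commute g x :=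
  Subgroup.mem_centralizer_iff.trans ⟨fun h x hx => (h x hx).symm, fun h x hx => (h x hx).eq.symm⟩

omit [Finite G] in
theorem comm_mem {H : Subgroup G} {x h : G} (hx : x ∈ H) (hh : h ∈ H) :
    x⁻¹ * (h * x * h⁻¹) ∈ FourGen.sq H := by
  have := FourGen.comm_mem_sq (inv_mem hx) hh
  rwa [inv_inv, show x⁻¹ * h * x * h⁻¹ = x⁻¹ * (h * x * h⁻¹) by group] at this

/-- An abelian subgroup against the squares. -/
theorem first_abelian {H K W : Subgroup G} (hKH : K ≤ H) (hK : ∀ x ∈ K, ∀ y ∈ K, Commute x y)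
    (hW : ∀ k ∈ K, k ^ 2 = 1 → k ∈ W) :
    (FourGen.sq H).relIndex K ≤ Nat.card W ∧
      (Nat.card W < 2 * (FourGen.sq H).relIndex K →
        W ≤ K ∧ ∀ k ∈ K, k ∈ FourGen.sq H → ∃ l ∈ K, l ^ 2 = k) := by
  let σ : K →* K := MonoidHom.mk' (fun k => k ^ 2)
    fun x y => Subtype.ext ((hK _ x.2 _ y.2).mul_pow 2)
  set S := (FourGen.sq H).subgroupOf K with hS
  have hle : σ.range ≤ S := by
    rintro _ ⟨k, rfl⟩
    exact FourGen.sq_mem (hKH k.2)
  set T := σ.ker.map K.subtype with hT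
  have hTW : T ≤ W := by
    rintro _ ⟨x, hx, rfl⟩
    exact hW _ x.2 (congrArg Subtype.val (MonoidHom.mem_ker.1 hx))
  have hTK : T ≤ K := Subgroup.map_subtype_le _
  have hRi : σ.range.index = Nat.card T := by
    rw [Subgroup.card_map_of_injective K.subtype_injective]
    have h1 := σ.range.card_mul_index
    have h3 := σ.ker.card_mul_index
    rw [Subgroup.index_ker, ← h1, mul_comm] at h3
    exact (Nat.eq_of_mul_eq_mul_left Nat.card_pos h3).symm
  have hdvd := Subgroup.card_dvd_of_le hTW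
  rw [← hRi] at hdvd
  have hmul := Subgroup.relIndex_mul_index hle
  change σ.range.relIndex S * S.index = σ.range.index at hmul
  change S.index ≤ _ ∧ (_ < 2 * S.index → _)
  have h0 : σ.range.relIndex S ≠ 0 := Subgroup.index_ne_zero_of_finite
  have hWpos : 0 < Nat.card W := Nat.card_pos
  have hSle : S.index ≤ σ.range.index := by
    rw [← hmul]
    exact Nat.le_mul_of_pos_left _ (Nat.pos_of_ne_zero h0)
  refine ⟨hSle.trans (Nat.le_of_dvd hWpos hdvd), fun hlt => ?_⟩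
  have heq : σ.range.index = Nat.card W := by
    obtain ⟨d, hd⟩ := hdvd
    rcases (show d = 0 ∨ d = 1 ∨ 2 ≤ d by omega) with rfl | rfl | hd2
    · omega
    · omega
    · have := Nat.mul_le_mul hSle hd2
      omega
  have hone : σ.range.relIndex S = 1 := by
    by_contra hne
    have := Nat.mul_le_mul_right S.index (show 2 ≤ σ.range.relIndex S by omega)
    omega
  have hTW' : T = W := Subgroup.eq_of_le_of_card_ge hTW (by omega)
  refine ⟨hTW' ▸ hTK, fun k hk hks => ?_⟩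
  obtain ⟨l, hl⟩ := Subgroup.relIndex_eq_one.1 hone (show (⟨k, hk⟩ : K) ∈ S from hks)
  exact ⟨l.1, l.2, congrArg Subtype.val hl⟩

variable {W : Subgroup G} [W.Normal] (hWc : ∀ x ∈ W, ∀ y ∈ W, Commute x y)
  (hWe : ∀ x ∈ W, x ^ 2 = 1) (hW8 : Nat.card W = 8)

include h2 hWc hWe hW8 in
/-- A flag in `W`. -/
theorem exists_flag {z : G} (hz : z ∈ W) (hzc : ∀ g, Commute g z) (hz1 : z ≠ 1) :
    ∃ w₁ ∈ W, ∃ w₂ ∈ W, (∀ g, g * w₁ * g⁻¹ ∈ ({w₁, z * w₁} : Set G)) ∧
      (∀ g, g * w₂ * g⁻¹ ∈ ({w₂, z * w₂, w₁ * w₂, z * w₁ * w₂} : Set G)) ∧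
      ∀ g, Commute g w₁ → Commute g w₂ → g ∈ Subgroup.centralizer (W : Set G) := by
  haveI : (Subgroup.zpowers z).Normal := ⟨fun x hx g => by
    obtain ⟨i, rfl⟩ := hx
    exact ((((hzc g).zpow_right i).eq.symm ▸ by group :
      g * z ^ i * g⁻¹ = z ^ i) ▸ ⟨i, rfl⟩)⟩
  have hz2 : z * z = 1 := by rw [← pow_two]; exact hWe z hz
  have hzp : ∀ x ∈ Subgroup.zpowers z, x = 1 ∨ x = z := by
    rintro x ⟨i, rfl⟩
    obtain ⟨l, rfl | rfl⟩ := Int.even_or_odd' i
    · exact Or.inl (by simp [zpow_mul, zpow_two, hz2, hWe z hz])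
    · exact Or.inr (by simp [zpow_add_one, zpow_mul, zpow_two, hz2, hWe z hz])
  obtain ⟨w₁, hw₁, -, hw₁z, -, hstep⟩ := exists_step h2 ⊤ W (Subgroup.zpowers z) (by
    by_contra hcon
    push Not at hcon
    have h1 := Subgroup.card_le_of_le fun x hx => hcon x hx (Subgroup.mem_top x)
    rw [hW8, Nat.card_zpowers] at h1
    have := orderOf_le_of_pow_eq_one (show 0 < 2 by norm_num) (hWe z hz)
    omega)
  have ha : ∀ g, g * w₁ * g⁻¹ ∈ ({w₁, z * w₁} : Set G) := fun g => by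
    rcases hzp _ (hstep g (Subgroup.mem_top g)) with h | h
    · exact Or.inl (inv_mul_eq_one.1 h).symm
    · right
      rw [Set.mem_singleton_iff, (hzc w₁).eq.symm]
      exact inv_mul_eq_iff_eq_mul.1 h
  set U : Set G := {1, z, w₁, z * w₁} with hU
  have hw1 : w₁ ≠ 1 := fun h => hw₁z (h ▸ one_mem _)
  have hw1z : w₁ ≠ z := fun h => hw₁z (h ▸ Subgroup.mem_zpowers z)
  have e1 : z * w₁ ≠ 1 := fun h => hw1z (mul_left_cancel (h.trans hz2.symm))
  have e2 : z * w₁ ≠ z := fun h => hw1 (mul_eq_left.1 h)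
  have e3 : z * w₁ ≠ w₁ := fun h => hz1 (mul_eq_right.1 h)
  have hUW : U ⊆ (W : Set G) := by
    rintro x (rfl | rfl | rfl | rfl)
    exacts [one_mem _, hz, hw₁, mul_mem hz hw₁]
  have hU4 : U.ncard = 4 := by
    rw [hU, Set.ncard_insert_of_notMem (by simp [hz1.symm, hw1.symm, e1.symm]),
      Set.ncard_insert_of_notMem (by simp [hw1z.symm, e2.symm]), Set.ncard_pair e3.symm]
  have hWn : (W : Set G).ncard = 8 := hW8
  have hrest : ((W : Set G) \ U).ncard = 4 := by rw [Set.ncard_diff hUW, hWn, hU4]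
  obtain ⟨w₂, hw₂, hw₂U⟩ := Set.nonempty_of_ncard_ne_zero (by omega :
    ((W : Set G) \ U).ncard ≠ 0)
  have hUn : ∀ g, ∀ x ∈ U, g * x * g⁻¹ ∈ U := by
    intro g x hx
    rcases hx with rfl | rfl | rfl | rfl
    · exact Or.inl (by group)
    · exact Or.inr (Or.inl (by rw [(hzc g).eq, mul_inv_cancel_right]))
    · rcases ha g with h | h
      · exact Or.inr (Or.inr (Or.inl h))
      · exact Or.inr (Or.inr (Or.inr h))
    · rw [← conj_mul, (hzc g).eq, mul_inv_cancel_right]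
      rcases ha g with h | h
      · exact Or.inr (Or.inr (Or.inr (by rw [h]; rfl)))
      · refine Or.inr (Or.inr (Or.inl ?_))
        rw [Set.mem_singleton_iff] at h
        rw [h, ← mul_assoc, hz2, one_mul]
  set O : Set G := {w₂, z * w₂, w₁ * w₂, z * w₁ * w₂} with hO
  have hgen : ∀ x ∈ W, x ∈ U ∨ x ∈ O := by
    have hOsub : O ⊆ (W : Set G) \ U := by
      have aux : ∀ u ∈ U, u * w₂ ∈ (W : Set G) \ U := by
        refine fun u hu => ⟨mul_mem (hUW hu) hw₂, fun h => hw₂U ?_⟩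
        have hmul : ∀ p ∈ U, ∀ q ∈ U, p * q ∈ U := by
          have hw2' : w₁ * w₁ = 1 := by rw [← pow_two]; exact hWe _ hw₁
          have hc : w₁ * z = z * w₁ := (hzc w₁).eq
          have hzz : ∀ x, z * (z * x) = x := fun x => by rw [← mul_assoc, hz2, one_mul]
          have hwz : ∀ x, w₁ * (z * x) = z * (w₁ * x) := fun x => by
            rw [← mul_assoc, hc, mul_assoc]
          intro p hp q hq
          simp only [hU, Set.mem_insert_iff, Set.mem_singleton_iff] at hp hq ⊢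
          rcases hp with h | h | h | h <;> rcases hq with k | k | k | k <;>
            simp [h, k, mul_assoc, hc, hz2, hw2', hzz, hwz]
        have hinv : u⁻¹ ∈ U := by
          rw [inv_eq_of_mul_eq_one_left (by rw [← pow_two]; exact hWe _ (hUW hu))]
          exact hu
        simpa using hmul _ hinv _ h
      rintro x (rfl | rfl | rfl | rfl)
      · simpa using aux 1 (Or.inl rfl)
      · exact aux z (Or.inr (Or.inl rfl))
      · exact aux w₁ (Or.inr (Or.inr (Or.inl rfl)))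
      · exact aux (z * w₁) (Or.inr (Or.inr (Or.inr rfl)))
    have hO4 : O.ncard = 4 := by
      rw [hO, Set.ncard_insert_of_notMem (by simp [hz1, hw1, e1]),
        Set.ncard_insert_of_notMem (by
          simp only [Set.mem_insert_iff, Set.mem_singleton_iff, mul_left_inj]
          exact not_or_intro hw1z.symm e2.symm),
        Set.ncard_pair (fun h => e3 (mul_right_cancel h).symm)]
    intro x hx
    by_cases hxU : x ∈ U
    · exact Or.inl hxU
    · exact Or.inr ((Set.eq_of_subset_of_ncard_le hOsub (by omega)).symm ▸ ⟨hx, hxU⟩)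
  refine ⟨w₁, hw₁, w₂, hw₂, ha, fun g => (hgen _ (Subgroup.Normal.conj_mem inferInstance _ hw₂ g)
    ).resolve_left fun h => hw₂U ?_, fun g h1 h2' => mem_centralizer'.2 fun x hx => ?_⟩
  · simpa [mul_assoc] using hUn g⁻¹ _ h
  · rcases hgen x hx with h | h <;> rcases h with rfl | rfl | rfl | rfl
    exacts [Commute.one_right g, hzc g, h1, (hzc g).mul_right h1, h2', (hzc g).mul_right h2',
      h1.mul_right h2', ((hzc g).mul_right h1).mul_right h2']

include h2 hWc hWe hW8 in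
/-- The action on `W` gives at most two generators, and fills the transvections with one centre
when there are two. -/
theorem second_aut {z : G} (hz : z ∈ W) (hzc : ∀ g, Commute g z) (hz1 : z ≠ 1) (H : Subgroup G) :
    second (Subgroup.centralizer (W : Set G)) H ≤ 4 ∧
      (2 < second (Subgroup.centralizer (W : Set G)) H →
        (∀ h ∈ H, ∀ w ∈ W, w⁻¹ * (h * w * h⁻¹) ∈ ({1, z} : Set G)) →
        ∀ g : G, (∀ w ∈ W, w⁻¹ * (g * w * g⁻¹) ∈ ({1, z} : Set G)) →
          ∃ h ∈ H, h⁻¹ * g ∈ Subgroup.centralizer (W : Set G)) := by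
  haveI := Fact.mk Nat.prime_two
  obtain ⟨w₁, hw₁, w₂, hw₂, ho₁, ho₂, hgen⟩ := exists_flag h2 hWc hWe hW8 hz hzc hz1
  set C := Subgroup.centralizer (W : Set G) with hC
  set D := C.subgroupOf H with hD
  set S := (FourGen.sq H).subgroupOf H ⊔ D with hS
  change S.index ≤ 4 ∧ _
  have hdvd : S.index ∣ D.index := Subgroup.index_dvd_of_le le_sup_right
  let act : G → G × G := fun g => (g * w₁ * g⁻¹, g * w₂ * g⁻¹)
  have hact : ∀ x y : G, act x = act y → x⁻¹ * y ∈ C := fun x y hxy => by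
    obtain ⟨e₁, e₂⟩ := Prod.ext_iff.1 hxy
    have key : ∀ w, x * w * x⁻¹ = y * w * y⁻¹ → Commute (x⁻¹ * y) w := fun w he => by
      rw [Commute, SemiconjBy, ← mul_inv_eq_iff_eq_mul]
      calc x⁻¹ * y * w * (x⁻¹ * y)⁻¹ = x⁻¹ * (y * w * y⁻¹) * x := by group
        _ = x⁻¹ * (x * w * x⁻¹) * x := by rw [he]
        _ = w := by group
    exact hgen _ (key _ e₁) (key _ e₂)
  have hinj : ∀ tgt : Set (G × G), (∀ x : H, act x ∈ tgt) → ∃ Φ : H ⧸ D → tgt,
      Function.Injective Φ ∧ ∀ q, (Φ q : G × G) = act (q.out : H) := fun tgt h => by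
    refine ⟨fun q => ⟨_, h q.out⟩, fun p q hpq => ?_, fun q => rfl⟩
    rw [← QuotientGroup.out_eq' p, ← QuotientGroup.out_eq' q, QuotientGroup.eq]
    exact hact _ _ (congrArg Subtype.val hpq)
  have hD0 : D.index ≠ 0 := Subgroup.index_ne_zero_of_finite
  have hp1 : ({w₁, z * w₁} : Set G).ncard ≤ 2 :=
    (Set.ncard_insert_le _ _).trans (by rw [Set.ncard_singleton])
  have hp2 : ({w₂, z * w₂, w₁ * w₂, z * w₁ * w₂} : Set G).ncard ≤ 4 := by
    refine (Set.ncard_insert_le _ _).trans (Nat.succ_le_succ ((Set.ncard_insert_le _ _).trans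
      (Nat.succ_le_succ ((Set.ncard_insert_le _ _).trans ?_))))
    rw [Set.ncard_singleton]
  set tgt : Set (G × G) := ({w₁, z * w₁} : Set G) ×ˢ
    ({w₂, z * w₂, w₁ * w₂, z * w₁ * w₂} : Set G) with htgt
  have ht8 : Nat.card tgt ≤ 8 := by
    rw [Nat.card_coe_set_eq, Set.ncard_prod]
    exact Nat.mul_le_mul hp1 hp2
  obtain ⟨Φ, hΦ, hΦv⟩ := hinj tgt fun x => ⟨ho₁ x, ho₂ x⟩
  have hD8 : D.index ≤ 8 := (Nat.card_le_card_of_injective Φ hΦ).trans ht8
  have hpow : ∀ X : Subgroup H, 2 < X.index → X.index ≤ 8 → X.index = 4 ∨ X.index = 8 :=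
    fun X h1 h3 => by
      obtain ⟨n, hn⟩ := (h2.to_subgroup H).index X
      rw [hn] at h1 h3 ⊢
      have : n ≤ 3 := (Nat.pow_le_pow_iff_right (by norm_num)).1 (show 2 ^ n ≤ 2 ^ 3 from h3)
      interval_cases n <;> simp_all
  refine ⟨?_, fun hlt hH g hg => ?_⟩
  · by_contra hgt
    have hSD : S.index ≤ D.index := Nat.le_of_dvd (Nat.pos_of_ne_zero hD0) hdvd
    have hS8 : S.index = 8 :=
      (hpow S (by omega) (hSD.trans hD8)).resolve_left (by omega)
    have hDS : S ≤ D := by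
      refine Subgroup.relIndex_eq_one.1 ?_
      have h := Subgroup.relIndex_mul_index (le_sup_right : D ≤ S)
      rw [hS8, show D.index = 8 by omega] at h
      change D.relIndex S * 8 = 8 at h
      omega
    have hbij := hΦ.bijective_of_nat_card_le (ht8.trans (by change 8 ≤ D.index; omega))
    have hreal : ∀ p ∈ tgt, ∃ x : H, act x = p := fun p hp => by
      obtain ⟨q, hq⟩ := hbij.2 ⟨p, hp⟩
      exact ⟨q.out, (hΦv q).symm.trans (congrArg Subtype.val hq)⟩
    obtain ⟨p, hp⟩ := hreal (z * w₁, w₂) ⟨Or.inr rfl, Or.inl rfl⟩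
    obtain ⟨k, hk⟩ := hreal (w₁, w₁ * w₂) ⟨Or.inl rfl, Or.inr (Or.inr (Or.inl rfl))⟩
    obtain ⟨hp₁, hp₂⟩ := Prod.ext_iff.1 hp
    obtain ⟨hk₁, hk₂⟩ := Prod.ext_iff.1 hk
    dsimp only [act] at hp₁ hp₂ hk₁ hk₂
    have hc := mem_centralizer'.1 (Subgroup.mem_subgroupOf.1 (hDS (Subgroup.mem_sup_left
      (Subgroup.mem_subgroupOf.2 (FourGen.comm_mem_sq p.2 k.2 : _ ∈ FourGen.sq H) :
        p * k * p⁻¹ * k⁻¹ ∈ (FourGen.sq H).subgroupOf H)))) (w₁ * w₂) (mul_mem hw₁ hw₂)
    simp only [Subgroup.coe_mul, InvMemClass.coe_inv] at hc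
    have e1 : (p : G) * k * w₂ * ((p : G) * k)⁻¹ = z * w₁ * w₂ := by
      calc _ = (p : G) * ((k : G) * w₂ * (k : G)⁻¹) * (p : G)⁻¹ := by group
        _ = ((p : G) * w₁ * (p : G)⁻¹) * ((p : G) * w₂ * (p : G)⁻¹) := by rw [hk₂]; group
        _ = _ := by rw [hp₁, hp₂]
    have e2 : (k : G) * p * w₂ * ((k : G) * p)⁻¹ = w₁ * w₂ := by
      calc _ = (k : G) * ((p : G) * w₂ * (p : G)⁻¹) * (k : G)⁻¹ := by group
        _ = _ := by rw [hp₂, hk₂]
    have e3 : z * w₁ * w₂ = w₁ * w₂ := by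
      calc z * w₁ * w₂ = ((p : G) * k * (p : G)⁻¹ * (k : G)⁻¹) *
            ((k : G) * p * w₂ * ((k : G) * p)⁻¹) *
            ((p : G) * k * (p : G)⁻¹ * (k : G)⁻¹)⁻¹ := by rw [← e1]; group
        _ = _ := by rw [e2, hc.eq, mul_inv_cancel_right]
    rw [mul_assoc] at e3
    exact hz1 (mul_eq_right.1 e3)
  · set t4 : Set (G × G) := ({w₁, z * w₁} : Set G) ×ˢ ({w₂, z * w₂} : Set G) with ht4
    have hin : ∀ y : G, (∀ w ∈ W, w⁻¹ * (y * w * y⁻¹) ∈ ({1, z} : Set G)) → act y ∈ t4 := by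
      intro y hy
      have aux : ∀ w ∈ W, y * w * y⁻¹ ∈ ({w, z * w} : Set G) := fun w hw => by
        rcases hy w hw with h | h
        · exact Or.inl (inv_mul_eq_one.1 h).symm
        · right
          rw [Set.mem_singleton_iff, (hzc w).eq.symm]
          exact inv_mul_eq_iff_eq_mul.1 h
      exact ⟨aux _ hw₁, aux _ hw₂⟩
    obtain ⟨Ψ, hΨ, hΨv⟩ := hinj t4 fun x => hin _ (hH x x.2)
    have ht : Nat.card t4 ≤ 4 := by
      have hp3 : ({w₂, z * w₂} : Set G).ncard ≤ 2 :=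
        (Set.ncard_insert_le _ _).trans (by rw [Set.ncard_singleton])
      rw [Nat.card_coe_set_eq, Set.ncard_prod]
      exact Nat.mul_le_mul hp1 hp3
    have hD4 : D.index ≤ 4 := (Nat.card_le_card_of_injective Ψ hΨ).trans ht
    have hD' : D.index = 4 := by
      have hle := Nat.le_of_dvd (Nat.pos_of_ne_zero hD0) hdvd
      change 2 < S.index at hlt
      exact (hpow D (by omega) (by omega)).resolve_right (by omega)
    obtain ⟨q, hq⟩ := (hΨ.bijective_of_nat_card_le (ht.trans (by change 4 ≤ D.index; omega))).2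
      ⟨act g, hin g hg⟩
    exact ⟨q.out, q.out.2, hact _ _ ((hΨv q).symm.trans (congrArg Subtype.val hq))⟩

include h2 hWc hWe hW8 in
/-- The centralizer of `W` is abelian, and `W` or an extension of it by an element of order four. -/
theorem small_case {z : G} (hz : z ∈ W) (hzc : ∀ g, Commute g z) (hz1 : z ≠ 1) {a : G}
    (hC : ∀ x ∈ Subgroup.centralizer (W : Set G), x ∉ W → x ^ 2 = z ∧
      (∀ w ∈ W, w⁻¹ * (a * w * a⁻¹) ∈ ({1, z} : Set G)) ∧
      x⁻¹ * (a * x * a⁻¹) ∉ ({1, z} : Set G))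
    (hcoset : ∀ x ∈ Subgroup.centralizer (W : Set G), ∀ y ∈ Subgroup.centralizer (W : Set G),
      x ∉ W → y ∉ W → x⁻¹ * y ∈ W)
    (H : Subgroup G) : (FourGen.sq H).relIndex H ≤ 16 := by
  set C := Subgroup.centralizer (W : Set G) with hCdef
  haveI : C.Normal := Subgroup.normal_centralizer
  rw [split H C]
  have hCc : ∀ x ∈ C, ∀ y ∈ C, Commute x y := by
    intro x hx y hy
    by_cases hxW : x ∈ W
    · exact (mem_centralizer'.1 hy x hxW).symm
    by_cases hyW : y ∈ W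
    · exact mem_centralizer'.1 hx y hyW
    have h := (Commute.refl x).mul_right (mem_centralizer'.1 hx _ (hcoset x hx y hy hxW hyW))
    rwa [mul_inv_cancel_left] at h
  have hinv : ∀ k ∈ H ⊓ C, k ^ 2 = 1 → k ∈ W := fun k hk hk2 => by
    by_contra hkW
    exact hz1 ((hC k hk.2 hkW).1.symm.trans hk2)
  obtain ⟨hf, heq⟩ := first_abelian (H := H) inf_le_left
    (fun x hx y hy => hCc x hx.2 y hy.2) hinv
  rw [hW8] at hf heq
  obtain ⟨hs, hfill⟩ := second_aut h2 hWc hWe hW8 hz hzc hz1 H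
  rw [← hCdef] at hs hfill
  by_cases hs2 : second C H ≤ 2
  · exact Nat.mul_le_mul hf hs2
  by_cases hf4 : (FourGen.sq H).relIndex (H ⊓ C) ≤ 4
  · exact Nat.mul_le_mul hf4 hs
  exfalso
  obtain ⟨hWK, hroot⟩ := heq (by omega)
  have hsq : ∀ w ∈ W, ∀ h ∈ H, ∃ l ∈ H ⊓ C, l ^ 2 = w⁻¹ * (h * w * h⁻¹) := fun w hw h hh =>
    hroot _ (hWK (mul_mem (inv_mem hw) (Subgroup.Normal.conj_mem inferInstance w hw h)))
      (comm_mem (hWK hw).1 hh)
  have hin : ∀ k ∈ H ⊓ C, k ^ 2 ∈ ({1, z} : Set G) := fun k hk => by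
    by_cases hkW : k ∈ W
    · exact Or.inl (hWe k hkW)
    · exact Or.inr (hC k hk.2 hkW).1
  by_cases hK : ∃ x ∈ H ⊓ C, x ∉ W
  · obtain ⟨x, hx, hxW⟩ := hK
    obtain ⟨-, hWa, hxa⟩ := hC x hx.2 hxW
    have hCH : C ≤ H := fun c hc => by
      by_cases hcW : c ∈ W
      · exact (hWK hcW).1
      · have := mul_mem hx.1 (hWK (hcoset x hx.2 c hc hxW hcW)).1
        rwa [mul_inv_cancel_left] at this
    obtain ⟨h, hh, hha⟩ := hfill (by omega) (fun h hh w hw => by
      obtain ⟨l, hl, he⟩ := hsq w hw h hh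
      exact he ▸ hin l hl) a hWa
    have haH : a ∈ H := by
      have := mul_mem hh (hCH hha)
      rwa [mul_inv_cancel_left] at this
    obtain ⟨l, hl, he⟩ := hroot (x⁻¹ * (a * x * a⁻¹))
      ⟨H.mul_mem (H.inv_mem hx.1) (H.mul_mem (H.mul_mem haH hx.1) (H.inv_mem haH)),
        C.mul_mem (C.inv_mem hx.2) (Subgroup.Normal.conj_mem inferInstance x hx.2 a)⟩
      (comm_mem hx.1 haH)
    exact hxa (he ▸ hin l hl)
  · push Not at hK
    have hHC : H ≤ C := fun h hh => mem_centralizer'.2 fun w hw => by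
      obtain ⟨l, hl, he⟩ := hsq w hw h hh
      rw [hWe l (hK l hl)] at he
      exact mul_inv_eq_iff_eq_mul.1 (inv_mul_eq_one.1 he.symm).symm
    have := second_eq_one hHC
    omega

end Cfsg.Agent.Solv.SelfCentEight
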