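import Cfsg.Agent.Lib.Solv.SelfCentEight.Basic

/-!
Finite facts about the central product of two quaternion groups of order eight, in coordinates.
-/

set_option autoImplicit false
set_option synthInstance.maxSize 2000

namespace Cfsg.Agent.Solv.SelfCentEight.QQ

/-- The quaternion group. -/
abbrev Q8 : Type := QuaternionGroup 2

/-- Pairs. -/
abbrev QP : Type := Q8 × Q8

/-- The generators and the central element. -/
def qi : Q8 := QuaternionGroup.a 1

/-- The second generator. -/
def qj : Q8 := QuaternionGroup.xa 0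

/-- The central involution. -/
def qc : Q8 := QuaternionGroup.a 2

/-- Equality in the central product. -/
def Same (p q : QP) : Prop := p = q ∨ p = q * (qc, qc)

instance : DecidableRel Same := fun p q => inferInstanceAs (Decidable (p = q ∨ p = q * (qc, qc)))

/-- The automorphism of order three. -/
def rot : Q8 → Q8 := fun x =>
  if x = 1 then 1 else if x = qc then qc
  else if x = qi then qj else if x = qi * qc then qj * qc
  else if x = qj then qi * qj else if x = qj * qc then qi * qj * qc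
  else if x = qi * qj then qi else qi * qc

/-- The two twists. -/
def twist (b : Bool) (x : Q8) : Q8 := cond b (rot x) x

/-- The two maximal elementary abelian subgroups in coordinates. -/
def Lag (b : Bool) (p : QP) : Prop := twist b p.1 = p.2 ∨ twist b p.1 = p.2 * qc

instance (b : Bool) : DecidablePred (Lag b) := fun p =>
  inferInstanceAs (Decidable (twist b p.1 = p.2 ∨ twist b p.1 = p.2 * qc))

theorem rot_mul : ∀ x y : Q8, rot (x * y) = rot x * rot y := by decide +kernel

theorem lag_mul : ∀ b, ∀ p q : QP, Lag b p → Lag b q → Lag b (p * q) := by decide +kernel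

theorem lag_one : ∀ b, Lag b (1 : QP) := by decide +kernel

theorem lag_inv : ∀ b, ∀ p : QP, Lag b p → Lag b p⁻¹ := by decide +kernel

theorem lag_comm : ∀ b, ∀ p q : QP, Lag b p → Lag b q → Same (p * q) (q * p) := by decide +kernel

theorem lag_sq : ∀ b, ∀ p : QP, Lag b p → Same (p * p) 1 := by decide +kernel

theorem lag_same : ∀ b, ∀ p q : QP, Lag b p → Same q p → Lag b q := by decide +kernel

theorem lag_cent : ∀ b, ∀ p : QP, (∀ q : QP, Lag b q → Same (p * q) (q * p)) → Lag b p := by
  decide +kernel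

theorem lag_gen : ∀ b, Lag b (qi, twist b qi) ∧ Lag b (qj, twist b qj) := by decide +kernel

theorem images : ∀ b, ∀ p q : QP,
    (Same (p * (qi, twist b qi)) ((qi, twist b qi) * p) ∧
      ¬ Same (p * (qj, twist b qj)) ((qj, twist b qj) * p) ∧ Same (p * p) (qc, 1)) →
    (Same (q * (qj, twist b qj)) ((qj, twist b qj) * q) ∧
      ¬ Same (q * (qi, twist b qi)) ((qi, twist b qi) * q) ∧ Same (q * q) (qc, 1)) →
    ¬ Same (p * q) (q * p) →
    ((Same p (qi, 1) ∨ Same p (qi * qc, 1)) ∧ (Same q (qj, 1) ∨ Same q (qj * qc, 1))) ∨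
    ((Same p (1, twist b qi) ∨ Same p (1, twist b qi * qc)) ∧
      (Same q (1, twist b qj) ∨ Same q (1, twist b qj * qc))) := by
  decide +kernel

theorem inner : ∀ b, ∀ p q : QP, (Same p (qi, 1) ∨ Same p (qi * qc, 1)) →
    (Same q (qj, 1) ∨ Same q (qj * qc, 1)) →
    ∃ r : QP, Lag b r ∧ Same (r * (qi, 1) * r⁻¹) p ∧ Same (r * (qj, 1) * r⁻¹) q := by
  decide +kernel

theorem gens : ∀ b, ∀ p : QP, ∃ r : Q8, ∃ d : QP, Lag b d ∧ Same p ((r, 1) * d) := by
  decide +kernel

theorem q8_gen : ∀ x : Q8, x = 1 ∨ x = qi ∨ x = qi * qi ∨ x = qi * qi * qi ∨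
    x = qj ∨ x = qj * qi ∨ x = qj * qi * qi ∨ x = qj * qi * qi * qi := by
  decide +kernel

theorem rot_three : ∀ x : Q8, rot (rot (rot x)) = x := by decide +kernel

theorem rot_moves : ∀ e : Bool, cond e (rot qi) (rot (rot qi)) ≠ qi ∧
    cond e (rot qi) (rot (rot qi)) ≠ qi * qc := by
  decide +kernel

theorem central : ∀ x y : Q8, y * qc = qc * y ∧ qc * qc = 1 ∧ x * qc * y = x * y * qc := by
  decide +kernel

theorem center_cases : ∀ x : Q8, x * qi = qi * x → x * qj = qj * x → x = 1 ∨ x = qc := by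
  decide +kernel

theorem card_lag : ∀ b, Fintype.card {p : QP // Lag b p} = 16 := by decide +kernel

theorem card_qp : Fintype.card QP = 64 := by decide +kernel

theorem facts : ¬ Same ((qi, (1 : Q8)) * (qj, 1)) ((qj, 1) * (qi, 1)) ∧
    Same ((qi, (1 : Q8)) * (qi, 1)) (qc, 1) ∧ Same ((qj, (1 : Q8)) * (qj, 1)) (qc, 1) := by
  decide +kernel

theorem pattern : ∀ b, Same ((qi, (1 : Q8)) * (qi, twist b qi)) ((qi, twist b qi) * (qi, 1)) ∧
    ¬ Same ((qi, (1 : Q8)) * (qj, twist b qj)) ((qj, twist b qj) * (qi, 1)) ∧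
    Same ((qj, (1 : Q8)) * (qj, twist b qj)) ((qj, twist b qj) * (qj, 1)) ∧
    ¬ Same ((qj, (1 : Q8)) * (qi, twist b qi)) ((qi, twist b qi) * (qj, 1)) ∧
    Lag b (qc, 1) := by
  decide +kernel

end Cfsg.Agent.Solv.SelfCentEight.QQ
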