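import Cfsg.Agent.Lib.Solv.SelfCentEight.Main
import Cfsg.Agent.Lib.Solv.SelfCentEight.QuatTwo

/-!
A central product of two quaternion groups containing its centralizer has one of two elementary
abelian subgroups of order eight self-centralizing.
-/

set_option autoImplicit false
set_option linter.style.haveILetI false

namespace Cfsg.Agent.Solv.SelfCentEight

open QQ

variable {G : Type*} [Group G] [Finite G] (h2 : IsPGroup 2 G) (μ : QP →* G)
  (hμ : ∀ p q, μ p = μ q ↔ Same p q)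
  (hC : Subgroup.centralizer (μ.range : Set G) ≤ μ.range)

/-- One of the two subgroups. -/
def lagSub (b : Bool) : Subgroup G :=
  (({ carrier := {p | Lag b p}
      one_mem' := lag_one b
      mul_mem' := fun ha hb => lag_mul b _ _ ha hb
      inv_mem' := fun ha => lag_inv b _ ha } : Subgroup QP)).map μ

omit [Finite G] in
theorem mem_lagSub {b : Bool} {g : G} : g ∈ lagSub μ b ↔ ∃ p, Lag b p ∧ μ p = g := Iff.rfl

include hμ in
omit [Finite G] in
theorem lag_of_mem {b : Bool} {p : QP} (h : μ p ∈ lagSub μ b) : Lag b p := by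
  obtain ⟨q, hq, he⟩ := (mem_lagSub μ).1 h
  exact lag_same b q p hq ((hμ p q).1 he.symm)

include hμ in
omit [Finite G] in
theorem lagSub_facts (b : Bool) :
    (∀ x ∈ lagSub μ b, ∀ y ∈ lagSub μ b, Commute x y) ∧ (∀ x ∈ lagSub μ b, x ^ 2 = 1) := by
  refine ⟨?_, ?_⟩
  · rintro _ ⟨p, hp, rfl⟩ _ ⟨q, hq, rfl⟩
    change μ p * μ q = μ q * μ p
    rw [← map_mul, ← map_mul, hμ]
    exact lag_comm b p q hp hq
  · rintro _ ⟨p, hp, rfl⟩
    rw [pow_two, ← map_mul, ← map_one μ, hμ]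
    exact lag_sq b p hp

include hμ in
theorem card_lagSub (b : Bool) : Nat.card (lagSub μ b) = 8 := by
  classical
  set L : Subgroup QP :=
    { carrier := {p | Lag b p}
      one_mem' := lag_one b
      mul_mem' := fun ha hb => lag_mul b _ _ ha hb
      inv_mem' := fun ha => lag_inv b _ ha } with hL
  have hL16 : Nat.card L = 16 := by
    rw [← card_lag b, ← Nat.card_eq_fintype_card]
    rfl
  set f := μ.comp L.subtype with hf
  have h := f.ker.card_mul_index
  rw [Subgroup.index_ker, hL16, hf, MonoidHom.range_comp, Subgroup.range_subtype] at h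
  have hk : Nat.card (μ.comp L.subtype).ker = 2 := by
    refine Nat.card_eq_two_iff.2 ⟨1, ⟨⟨(qc, qc), ?_⟩, ?_⟩, fun he => ?_, Set.eq_univ_of_forall fun x => ?_⟩
    · change Lag b (qc, qc)
      cases b <;> decide +kernel
    · rw [MonoidHom.mem_ker]
      change μ (qc, qc) = 1
      rw [← map_one μ, hμ]
      exact Or.inr (one_mul _).symm
    · exact absurd (congrArg (fun y : (μ.comp L.subtype).ker => (y.1 : L).1) he)
        (show (1 : QP) ≠ (qc, qc) by decide +kernel)
    · have hx : μ x.1.1 = μ 1 := (MonoidHom.mem_ker.1 x.2).trans (map_one μ).symm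
      rcases (hμ _ _).1 hx with h' | h'
      · exact Or.inl (Subtype.ext (Subtype.ext h'))
      · exact Or.inr (Subtype.ext (Subtype.ext (h'.trans (one_mul _))))
  rw [hk] at h
  change Nat.card (L.map μ) = 8
  omega

/-- `g` interchanges the factors through the twist `b`. -/
def Swaps (b : Bool) (g : G) : Prop :=
  ∀ x : Q8, (g * μ (x, 1) * g⁻¹ = μ (1, twist b x) ∨ g * μ (x, 1) * g⁻¹ = μ (1, twist b x * qc)) ∧
    (g * μ (1, twist b x) * g⁻¹ = μ (x, 1) ∨ g * μ (1, twist b x) * g⁻¹ = μ (x * qc, 1))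

include hμ hC in
omit [Finite G] in
theorem swaps_of_centralizes {b : Bool} {g : G} (hQ : ∀ p, g * μ p * g⁻¹ ∈ μ.range)
    (hA : ∀ x ∈ lagSub μ b, Commute g x) (hgA : g ∉ lagSub μ b) : Swaps μ b g := by
  have hL : ∀ p, Lag b p → g * μ p * g⁻¹ = μ p := fun p hp => by
    rw [(hA _ ⟨p, hp, rfl⟩).eq, mul_inv_cancel_right]
  obtain ⟨p, hp⟩ := hQ (qi, 1)
  obtain ⟨q, hq⟩ := hQ (qj, 1)
  have htr : ∀ x y u v : QP, g * μ x * g⁻¹ = μ u → g * μ y * g⁻¹ = μ v →
      (Same (u * v) (v * u) ↔ Same (x * y) (y * x)) := fun x y u v hu hv => by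
    rw [← hμ, ← hμ, map_mul, map_mul, map_mul, map_mul, ← hu, ← hv, conj_mul, conj_mul,
      mul_left_inj, mul_right_inj]
  have hsq : ∀ x u : QP, g * μ x * g⁻¹ = μ u → Same (x * x) (qc, 1) → Same (u * u) (qc, 1) :=
    fun x u hu hx => by
      rw [← hμ] at hx ⊢
      rw [map_mul, ← hu, conj_mul, ← map_mul, hx]
      exact hL _ (pattern b).2.2.2.2
  obtain ⟨g₁, g₂⟩ := lag_gen b
  obtain ⟨n1, s1, s2⟩ := facts
  obtain ⟨a1, a2, a3, a4, -⟩ := pattern b
  rcases images b p q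
      ⟨(htr _ _ _ _ hp.symm (hL _ g₁)).2 a1, fun h => a2 ((htr _ _ _ _ hp.symm (hL _ g₂)).1 h),
        hsq _ _ hp.symm s1⟩
      ⟨(htr _ _ _ _ hq.symm (hL _ g₂)).2 a3, fun h => a4 ((htr _ _ _ _ hq.symm (hL _ g₁)).1 h),
        hsq _ _ hq.symm s2⟩
      (fun h => n1 ((htr _ _ _ _ hp.symm hq.symm).1 h)) with ⟨hP, hQ'⟩ | ⟨hP, hQ'⟩
  · exfalso
    obtain ⟨r, hr, r1, r2⟩ := inner b p q hP hQ'
    apply hgA
    set k := (μ r)⁻¹ * g with hk
    have hfix : ∀ x u : QP, g * μ x * g⁻¹ = μ u → Same (r * x * r⁻¹) u → Commute k (μ x) := by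
      intro x u hu hs
      rw [Commute, SemiconjBy, ← mul_inv_eq_iff_eq_mul, hk]
      calc (μ r)⁻¹ * g * μ x * ((μ r)⁻¹ * g)⁻¹ = (μ r)⁻¹ * (g * μ x * g⁻¹) * μ r := by group
        _ = (μ r)⁻¹ * μ (r * x * r⁻¹) * μ r := by rw [hu, (hμ _ _).2 hs]
        _ = μ x := by rw [map_mul, map_mul, map_inv]; group
    have hki := hfix _ _ hp.symm r1
    have hkj := hfix _ _ hq.symm r2
    have hkA : ∀ x ∈ lagSub μ b, Commute k x := fun x hx =>
      (((lagSub_facts μ hμ b).1 _ ⟨r, hr, rfl⟩ x hx).inv_left).mul_left (hA x hx)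
    have hkx : ∀ x : Q8, Commute k (μ (x, 1)) := by
      have hmul : ∀ x y : Q8, Commute k (μ (x, 1)) → Commute k (μ (y, 1)) →
          Commute k (μ (x * y, 1)) := fun x y hx hy => by
        have := hx.mul_right hy
        rwa [← map_mul, Prod.mk_mul_mk, one_mul] at this
      intro x
      rcases q8_gen x with rfl | rfl | rfl | rfl | rfl | rfl | rfl | rfl
      · rw [show ((1 : Q8), (1 : Q8)) = (1 : QP) from rfl, map_one]; exact Commute.one_right k
      exacts [hki, hmul _ _ hki hki, hmul _ _ (hmul _ _ hki hki) hki, hkj, hmul _ _ hkj hki,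
        hmul _ _ (hmul _ _ hkj hki) hki, hmul _ _ (hmul _ _ (hmul _ _ hkj hki) hki) hki]
    obtain ⟨s, hs⟩ := hC (show k ∈ Subgroup.centralizer (μ.range : Set G) from by
      rintro _ ⟨p', rfl⟩
      obtain ⟨x, d, hd, hsame⟩ := gens b p'
      rw [(hμ _ _).2 hsame, map_mul]
      exact ((hkx x).mul_right (hkA _ ⟨d, hd, rfl⟩)).symm.eq)
    have hsA : Lag b s := lag_cent b s fun d hd => (hμ _ _).1 (by
      rw [map_mul, map_mul, hs]
      exact (hkA _ ⟨d, hd, rfl⟩).eq)
    rw [show g = μ r * k from (mul_inv_cancel_left _ _).symm, ← hs]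
    exact mul_mem ⟨r, hr, rfl⟩ ⟨s, hsA, rfl⟩
  · have hi : g * μ (qi, 1) * g⁻¹ = μ (1, twist b qi) ∨
        g * μ (qi, 1) * g⁻¹ = μ (1, twist b qi * qc) := by
      rw [← hp]; exact hP.imp (hμ _ _).2 (hμ _ _).2
    have hj : g * μ (qj, 1) * g⁻¹ = μ (1, twist b qj) ∨
        g * μ (qj, 1) * g⁻¹ = μ (1, twist b qj * qc) := by
      rw [← hq]; exact hQ'.imp (hμ _ _).2 (hμ _ _).2
    have htw : ∀ x y : Q8, twist b (x * y) = twist b x * twist b y := fun x y => by
      cases b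
      · rfl
      · exact rot_mul x y
    have hmul : ∀ x y : Q8,
        (g * μ (x, 1) * g⁻¹ = μ (1, twist b x) ∨ g * μ (x, 1) * g⁻¹ = μ (1, twist b x * qc)) →
        (g * μ (y, 1) * g⁻¹ = μ (1, twist b y) ∨ g * μ (y, 1) * g⁻¹ = μ (1, twist b y * qc)) →
        (g * μ (x * y, 1) * g⁻¹ = μ (1, twist b (x * y)) ∨
          g * μ (x * y, 1) * g⁻¹ = μ (1, twist b (x * y) * qc)) := by
      intro x y hx hy
      have e : g * μ (x * y, 1) * g⁻¹ = (g * μ (x, 1) * g⁻¹) * (g * μ (y, 1) * g⁻¹) := by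
        rw [conj_mul, ← map_mul, Prod.mk_mul_mk, one_mul]
      rcases hx with hx | hx <;> rcases hy with hy | hy <;>
        rw [e, hx, hy, ← map_mul, Prod.mk_mul_mk, one_mul, htw]
      · exact Or.inl rfl
      · exact Or.inr (by rw [mul_assoc])
      · exact Or.inr (by rw [(central (twist b x) (twist b y)).2.2])
      · left
        rw [← mul_assoc, (central (twist b x) (twist b y)).2.2, mul_assoc,
          (central (twist b x) (twist b y)).2.1, mul_one]
    have hone : g * μ ((1 : Q8), (1 : Q8)) * g⁻¹ = μ (1, twist b 1) := by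
      have : twist b (1 : Q8) = 1 := by cases b <;> decide +kernel
      rw [this, show ((1 : Q8), (1 : Q8)) = (1 : QP) from rfl, map_one, mul_one, mul_inv_cancel]
    have hall : ∀ x : Q8,
        g * μ (x, 1) * g⁻¹ = μ (1, twist b x) ∨ g * μ (x, 1) * g⁻¹ = μ (1, twist b x * qc) := by
      intro x
      rcases q8_gen x with rfl | rfl | rfl | rfl | rfl | rfl | rfl | rfl
      exacts [Or.inl hone, hi, hmul _ _ hi hi, hmul _ _ (hmul _ _ hi hi) hi, hj, hmul _ _ hj hi,
        hmul _ _ (hmul _ _ hj hi) hi, hmul _ _ (hmul _ _ (hmul _ _ hj hi) hi) hi]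
    intro x
    refine ⟨hall x, ?_⟩
    have hd : g * μ (x, twist b x) * g⁻¹ = μ (x, twist b x) := hL _ (Or.inl rfl)
    have e : g * μ (1, twist b x) * g⁻¹ =
        (g * μ (x, 1) * g⁻¹)⁻¹ * (g * μ (x, twist b x) * g⁻¹) := by
      rw [conj_inv, conj_mul, ← map_inv, ← map_mul, Prod.inv_mk, Prod.mk_mul_mk, inv_mul_cancel,
        inv_one, one_mul]
    rcases hall x with hx | hx
    · left
      rw [e, hx, hd, ← map_inv, ← map_mul, Prod.inv_mk, Prod.mk_mul_mk, inv_one, one_mul,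
        inv_mul_cancel]
    · right
      rw [e, hx, hd, ← map_inv, ← map_mul, hμ, Prod.inv_mk, Prod.mk_mul_mk, inv_one, one_mul,
        mul_inv_rev, mul_assoc, inv_mul_cancel, mul_one]
      have hq : ∀ y : Q8, Same (y, qc⁻¹) (y * qc, 1) := by decide +kernel
      exact hq x

include h2 hμ hC in
theorem exists_selfCentralizing :
    ∃ b, ∀ g, (∀ x ∈ lagSub μ b, Commute g x) → g ∈ lagSub μ b := by
  by_contra hcon
  push Not at hcon
  have hbad : ∀ b, ∃ g, Swaps μ b g := by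
    intro b
    obtain ⟨g, hg, hgA⟩ := hcon b
    set A := lagSub μ b with hAdef
    set T := Subgroup.centralizer (A : Set G) with hT
    set N := Subgroup.normalizer (A : Set G) with hN
    have hQN : μ.range ≤ N := by
      rintro _ ⟨p, rfl⟩
      have hn : ∀ p : QP, ∀ q : QP, Lag b q → Lag b (p * q * p⁻¹) := by
        intro p; revert p; cases b <;> decide +kernel
      refine Subgroup.mem_normalizer_iff.2 fun x => ⟨?_, fun hx => ?_⟩
      · rintro ⟨q, hq, rfl⟩
        exact ⟨_, hn p q hq, by rw [map_mul, map_mul, map_inv]⟩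
      · obtain ⟨q, hq, he⟩ := hx
        refine ⟨_, hn p⁻¹ q hq, ?_⟩
        rw [map_mul, map_mul, inv_inv, map_inv, he]
        group
    haveI : (A.subgroupOf N).Normal := Subgroup.normal_subgroupOf_of_le_normalizer le_rfl
    have hTN : T ≤ N := Subgroup.centralizer_le_normalizer _
    haveI : (T.subgroupOf N).Normal := ⟨fun x hx k => Subgroup.mem_subgroupOf.2
      (mem_centralizer'.2 fun y hy => by
        have hy' : (k : G)⁻¹ * y * k ∈ A := (Subgroup.mem_normalizer_iff''.1 k.2 y).1 hy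
        have h1 : Commute (x : G) ((k : G)⁻¹ * y * k) := mem_centralizer'.1 hx _ hy'
        rw [Commute, SemiconjBy, ← mul_inv_eq_iff_eq_mul] at h1 ⊢
        calc ((k * x * k⁻¹ : N) : G) * y * ((k * x * k⁻¹ : N) : G)⁻¹
            = (k : G) * ((x : G) * ((k : G)⁻¹ * y * k) * (x : G)⁻¹) * (k : G)⁻¹ := by
              simp only [Subgroup.coe_mul, InvMemClass.coe_inv]; group
          _ = y := by rw [h1]; group)⟩
    -- a fixed point of `Q` on `T / A`
    obtain ⟨w, hwT, hwA, hw⟩ : ∃ w ∈ T, w ∉ A ∧ ∀ p, w⁻¹ * (μ p * w * (μ p)⁻¹) ∈ A := by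
      haveI := Fact.mk Nat.prime_two
      set X := (μ.range ⊔ T) with hX
      have hXN : X ≤ N := sup_le hQN hTN
      haveI : (A.subgroupOf X).Normal :=
        Subgroup.normal_subgroupOf_of_le_normalizer hXN
      haveI : (T.subgroupOf X).Normal := ⟨fun x hx k => by
        have h := Subgroup.Normal.conj_mem (inferInstance : (T.subgroupOf N).Normal)
          ⟨x.1, hXN x.2⟩ hx ⟨k.1, hXN k.2⟩
        exact h⟩
      have hgT : g ∈ T := mem_centralizer'.2 hg
      obtain ⟨m, hm, -, hmA, -, hm'⟩ := exists_step (h2.to_subgroup X) ⊤ (T.subgroupOf X)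
        (A.subgroupOf X) ⟨⟨g, Subgroup.mem_sup_right hgT⟩, hgT, Subgroup.mem_top _, hgA⟩
      exact ⟨m.1, hm, hmA, fun p =>
        hm' ⟨μ p, Subgroup.mem_sup_left ⟨p, rfl⟩⟩ (Subgroup.mem_top _)⟩
    refine ⟨w, swaps_of_centralizes μ hμ hC (fun p => ?_) (mem_centralizer'.1 hwT) hwA⟩
    obtain ⟨q, hqL, hq⟩ := hw p
    refine ⟨q⁻¹ * p, ?_⟩
    have hc : Commute w (μ q) := mem_centralizer'.1 hwT _ ⟨q, hqL, rfl⟩
    have h1 : w⁻¹ * μ p * w = μ q * μ p := by
      rw [hq]
      group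
    calc μ (q⁻¹ * p) = (μ q)⁻¹ * (w * (w⁻¹ * μ p * w) * w⁻¹) := by
          rw [map_mul, map_inv]; group
      _ = (μ q)⁻¹ * (w * μ q * (μ p * w⁻¹)) := by rw [h1]; group
      _ = w * μ p * w⁻¹ := by rw [hc.eq]; group
  obtain ⟨g₀, hg₀⟩ := hbad false
  obtain ⟨g₁, hg₁⟩ := hbad true
  set h := g₀ * g₁ with hh
  -- `h` acts on the first factor through the rotation
  have hstep : ∀ x : Q8, h * μ (x, 1) * h⁻¹ = μ (rot x, 1) ∨ h * μ (x, 1) * h⁻¹ = μ (rot x * qc, 1) := by
    intro x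
    have e : h * μ (x, 1) * h⁻¹ = g₀ * (g₁ * μ (x, 1) * g₁⁻¹) * g₀⁻¹ := by rw [hh]; group
    rcases (hg₁ x).1 with h1 | h1
    · rw [e, h1]
      exact (hg₀ (rot x)).2
    · rw [e, h1]
      have h3 := (hg₀ (rot x * qc)).2
      rcases h3 with h3 | h3
      · exact Or.inr h3
      · left
        have hcc : rot x * qc * qc = rot x := by rw [mul_assoc, (central x x).2.1, mul_one]
        rw [hcc] at h3
        exact h3
  have hpow : ∀ n : ℕ, h ^ n * μ (qi, 1) * (h ^ n)⁻¹ = μ (rot^[n] qi, 1) ∨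
      h ^ n * μ (qi, 1) * (h ^ n)⁻¹ = μ (rot^[n] qi * qc, 1) := by
    intro n
    induction n with
    | zero => exact Or.inl (by simp)
    | succ n ih =>
      have e : h ^ (n + 1) * μ (qi, 1) * (h ^ (n + 1))⁻¹ =
          h * (h ^ n * μ (qi, 1) * (h ^ n)⁻¹) * h⁻¹ := by rw [pow_succ']; group
      have hrc : ∀ y : Q8, rot (y * qc) = rot y * qc ∧ rot y * qc * qc = rot y := by decide +kernel
      rw [Function.iterate_succ_apply']
      rcases ih with ih | ih
      · rw [e, ih]; exact hstep _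
      · rw [e, ih]
        rcases hstep (rot^[n] qi * qc) with h3 | h3
        · exact Or.inr (by rw [h3, (hrc _).1])
        · exact Or.inl (by rw [h3, (hrc _).1, (hrc _).2])
  obtain ⟨k, hk⟩ := h2 h
  have hiter : ∀ k : ℕ, ∃ e : Bool, rot^[2 ^ k] qi = cond e (rot qi) (rot (rot qi)) := by
    intro k
    have hmod : ∀ n : ℕ, ∀ x : Q8, rot^[n] x = rot^[n % 3] x := by
      intro n x
      conv_lhs => rw [← Nat.mod_add_div n 3, Function.iterate_add_apply, Function.iterate_mul]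
      have : ∀ m : ℕ, (rot^[3])^[m] x = x := fun m => by
        induction m with
        | zero => rfl
        | succ m ih => rw [Function.iterate_succ_apply', ih]; exact rot_three x
      rw [this]
    rw [hmod]
    rcases (show 2 ^ k % 3 = 1 ∨ 2 ^ k % 3 = 2 by
      have h3 : ¬ 3 ∣ 2 ^ k := fun hd => by
        have := Nat.Prime.dvd_of_dvd_pow Nat.prime_three hd; omega
      omega) with h3 | h3 <;> rw [h3]
    · exact ⟨true, rfl⟩
    · exact ⟨false, rfl⟩
  obtain ⟨e, he⟩ := hiter k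
  have h1 := hpow (2 ^ k)
  rw [hk, one_mul, inv_one, mul_one, hμ, hμ, he] at h1
  have hno : ∀ e : Bool, ¬ (Same (qi, (1 : Q8)) (cond e (rot qi) (rot (rot qi)), 1) ∨
      Same (qi, (1 : Q8)) (cond e (rot qi) (rot (rot qi)) * qc, 1)) := by decide +kernel
  exact hno e h1

end Cfsg.Agent.Solv.SelfCentEight
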