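import Cfsg.Agent.Lib.Solv.SelfCentEight.Cases

/-!
A `2`-group with a self-centralizing elementary abelian subgroup of order eight has sectional rank
at most four.
-/

set_option autoImplicit false
set_option linter.style.haveILetI false

namespace Cfsg.Agent.Solv.SelfCentEight

variable {G : Type*} [Group G] [Finite G] (h2 : IsPGroup 2 G)
  {W : Subgroup G} [W.Normal] (hWc : ∀ x ∈ W, ∀ y ∈ W, Commute x y) (hWe : ∀ x ∈ W, x ^ 2 = 1)

omit [Finite G] in
include hWc hWe in
/-- Adding a commuting involution central modulo `W`. -/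
theorem extend {e : G} (he : e ∈ Subgroup.centralizer (W : Set G)) (he2 : e ^ 2 = 1)
    (hnorm : ∀ g, e⁻¹ * (g * e * g⁻¹) ∈ W) :
    ∃ X : Subgroup G, X.Normal ∧ IsMulCommutative X ∧ (∀ x ∈ X, x ^ 2 = 1) ∧ W ≤ X ∧ e ∈ X := by
  set X := W ⊔ Subgroup.zpowers e with hX
  have hdec : ∀ x ∈ X, ∃ w ∈ W, ∃ i : ℤ, x = w * e ^ i := by
    intro x hx
    rw [hX, ← SetLike.mem_coe, Subgroup.normal_mul] at hx
    obtain ⟨w, hw, _, ⟨i, rfl⟩, rfl⟩ := hx
    exact ⟨w, hw, i, rfl⟩
  have heX : e ∈ X := Subgroup.mem_sup_right (Subgroup.mem_zpowers e)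
  have hcm : ∀ w ∈ W, ∀ i : ℤ, Commute w (e ^ i) := fun w hw i =>
    ((mem_centralizer'.1 he w hw).symm).zpow_right i
  refine ⟨X, ⟨fun x hx g => ?_⟩, ⟨⟨fun x y => Subtype.ext ?_⟩⟩, fun x hx => ?_, le_sup_left, heX⟩
  · obtain ⟨w, hw, i, rfl⟩ := hdec x hx
    rw [← conj_mul, ← conj_zpow]
    refine mul_mem (Subgroup.mem_sup_left (Subgroup.Normal.conj_mem inferInstance w hw g))
      (zpow_mem ?_ i)
    have := mul_mem heX (Subgroup.mem_sup_left (T := Subgroup.zpowers e) (hnorm g))
    rwa [mul_inv_cancel_left] at this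
  · obtain ⟨u, hu, i, hi⟩ := hdec x x.2
    obtain ⟨w, hw, j, hj⟩ := hdec y y.2
    simp only [Subgroup.coe_mul, hi, hj]
    exact (((hWc u hu w hw).mul_right (hcm u hu j)).mul_left
      ((hcm w hw i).symm.mul_right ((Commute.refl e).zpow_zpow i j))).eq
  · obtain ⟨w, hw, i, rfl⟩ := hdec x hx
    rw [(hcm w hw i).mul_pow, hWe w hw, one_mul, ← zpow_natCast, ← zpow_mul, mul_comm i, zpow_mul,
      zpow_natCast, he2, one_zpow]

include h2 hWc hWe in
/-- A normal elementary abelian subgroup of order eight, none larger. -/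
theorem eight_case (hW8 : Nat.card W = 8)
    (hmax : ∀ X : Subgroup G, X.Normal → IsMulCommutative X → (∀ x ∈ X, x ^ 2 = 1) → Nat.card X ≤ 8)
    {a : G} (ha : a * a = 1) (hF : Nat.card (W ⊓ Subgroup.centralizer {a} : Subgroup G) = 4)
    (hfix : ∀ x ∈ Subgroup.centralizer (W : Set G), Commute x a → x ∈ W)
    (hca : ∀ z₀ ∈ W, (∀ g, Commute g z₀) → z₀ ≠ 1 →
      (¬ ∃ w ∈ W, w * (a * w * a⁻¹) = z₀) →
      (∃ e ∈ Subgroup.centralizer (W : Set G), e ∉ W ∧ e ^ 2 = z₀ ∧
        ∀ g, e⁻¹ * (g * e * g⁻¹) ∈ W) →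
      Nat.card (Subgroup.centralizer ({a} : Set G)) ≤ 8)
    (H : Subgroup G) : (FourGen.sq H).relIndex H ≤ 16 := by
  haveI := Fact.mk Nat.prime_two
  set C := Subgroup.centralizer (W : Set G) with hCdef
  haveI : C.Normal := Subgroup.normal_centralizer
  have hnorm : ∀ x ∈ W, ∀ g : G, g * x * g⁻¹ ∈ W := fun x hx g =>
    Subgroup.Normal.conj_mem inferInstance x hx g
  have hinvW : ∀ w ∈ W, w⁻¹ = w := fun w hw =>
    inv_eq_of_mul_eq_one_left (by rw [← pow_two]; exact hWe w hw)
  have hai : a⁻¹ = a := inv_eq_of_mul_eq_one_left ha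
  set F := W ⊓ Subgroup.centralizer {a} with hFdef
  obtain ⟨R, hRF, hcard, hRin, hRout⟩ := fixed_map (a := a) hWc hWe (fun x hx => hnorm x hx a)
    fun x _ => by rw [ha]; exact Commute.one_left x
  rw [hW8, ← hFdef, hF] at hcard
  have hR2 : Nat.card R = 2 := by omega
  have hRidx : (R.subgroupOf F).index = 2 := by
    have h := (R.subgroupOf F).card_mul_index
    rw [Nat.card_congr (Subgroup.subgroupOfEquivOfLe hRF).toEquiv, hR2, hF] at h
    omega
  have hFmem : ∀ {t : G}, t ∈ W → a * t * a⁻¹ = t → t ∈ F := fun ht h =>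
    ⟨ht, Subgroup.mem_centralizer_singleton_iff.2 (mul_inv_eq_iff_eq_mul.1 h).symm⟩
  have hmemW : ∀ x ∈ C, x⁻¹ * (a * x * a⁻¹) ∈ R → x ∈ W := fun x hx hu => by
    obtain ⟨w, hw, he⟩ := hRout _ hu
    have h1 : a * (x * w) * a⁻¹ = x * w := by
      rw [← conj_mul]
      calc a * x * a⁻¹ * (a * w * a⁻¹) = x * (w * (a * w * a⁻¹)) * (a * w * a⁻¹) := by
            rw [he]; group
        _ = x * w * ((a * w * a⁻¹) * (a * w * a⁻¹)) := by group
        _ = _ := by rw [← pow_two, hWe _ (hnorm w hw a), mul_one]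
    have h3 : x * w ∈ W := hfix _ (C.mul_mem hx (mem_centralizer'.2 (hWc w hw)))
      (mul_inv_eq_iff_eq_mul.1 h1).symm
    simpa using mul_mem h3 (inv_mem hw)
  have huF : ∀ x, x⁻¹ * (a * x * a⁻¹) ∈ W → x⁻¹ * (a * x * a⁻¹) ∈ F := fun x hu => by
    refine hFmem hu ?_
    rw [← hinvW _ hu]
    calc a * (x⁻¹ * (a * x * a⁻¹))⁻¹ * a⁻¹ = (a * a) * x⁻¹ * a⁻¹ * x * a⁻¹ := by group
      _ = x⁻¹ * a⁻¹ * x * a⁻¹ := by rw [ha, one_mul]
      _ = x⁻¹ * (a * x * a⁻¹) * 1 := by rw [hai]; group
      _ = _ := by rw [mul_one]; exact (hinvW _ hu).symm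
  have huniq : ∀ x ∈ C, ∀ y ∈ C, x ∉ W → y ∉ W → x⁻¹ * (a * x * a⁻¹) ∈ W →
      y⁻¹ * (a * y * a⁻¹) ∈ W → x * y ∈ W := fun x hx y hy hxW hyW hux huy => by
    refine hmemW _ (C.mul_mem hx hy) ?_
    have e1 : (x * y)⁻¹ * (a * (x * y) * a⁻¹) =
        (x⁻¹ * (a * x * a⁻¹)) * (y⁻¹ * (a * y * a⁻¹)) := by
      calc (x * y)⁻¹ * (a * (x * y) * a⁻¹)
          = y⁻¹ * (x⁻¹ * (a * x * a⁻¹)) * (a * y * a⁻¹) := by group
        _ = (x⁻¹ * (a * x * a⁻¹)) * y⁻¹ * (a * y * a⁻¹) := by
          rw [((mem_centralizer'.1 hy _ hux).inv_left).eq]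
        _ = _ := by group
    rw [e1]
    exact (Subgroup.mul_mem_iff_of_index_two hRidx (a := (⟨_, huF x hux⟩ : F))
      (b := ⟨_, huF y huy⟩)).2
      (iff_of_false (fun h => hxW (hmemW x hx h)) fun h => hyW (hmemW y hy h))
  obtain ⟨z₁, hz₁, hz₁1, hz₁c⟩ := Fusion.exists_central_of_normal h2 W fun h => by
    rw [h, Subgroup.card_bot] at hW8; omega
  by_cases hC : C ≤ W
  · exact small_case h2 hWc hWe hW8 hz₁ (fun g => Subgroup.mem_center_iff.1 hz₁c g) hz₁1 (a := a)
      (fun x hx hxW => absurd (hC hx) hxW) (fun x hx y hy hxW _ => absurd (hC hx) hxW) H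
  obtain ⟨e, heC, -, heW, he2, hestep⟩ := exists_step h2 ⊤ C W (by
    obtain ⟨x, hx, hxW⟩ := SetLike.not_le_iff_exists.1 hC
    exact ⟨x, hx, Subgroup.mem_top x, hxW⟩)
  replace hestep : ∀ g, e⁻¹ * (g * e * g⁻¹) ∈ W := fun g => hestep g (Subgroup.mem_top g)
  have hnoelem : ∀ y ∈ C, y ∉ W → y ^ 2 = 1 → (∀ g, y⁻¹ * (g * y * g⁻¹) ∈ W) → False :=
    fun y hy hyW hy2 hyn => by
      obtain ⟨X, hXn, hXc, hXe, hWX, hyX⟩ := extend hWc hWe hy hy2 hyn
      have h1 := hmax X hXn hXc hXe
      have h3 : W = X := Subgroup.eq_of_le_of_card_ge hWX (by omega)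
      exact hyW (h3 ▸ hyX)
  set z := e ^ 2 with hzdef
  have hz1 : z ≠ 1 := fun h => hnoelem e heC heW h hestep
  have hze : ∀ w ∈ W, (e * w) ^ 2 = z := fun w hw => by
    rw [(mem_centralizer'.1 heC w hw).mul_pow, hWe w hw, mul_one]
  have hzc : ∀ g, Commute g z := fun g => by
    have h : g * z * g⁻¹ = z := by
      rw [hzdef, ← conj_pow, show g * e * g⁻¹ = e * (e⁻¹ * (g * e * g⁻¹)) by
        rw [mul_inv_cancel_left], hze _ (hestep g)]
    exact mul_inv_eq_iff_eq_mul.1 h
  by_cases hzR : z ∈ R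
  · have hR : ∀ r ∈ R, r ∈ ({1, z} : Set G) := fun r hr => by
      by_contra hne
      simp only [Set.mem_insert_iff, Set.mem_singleton_iff, not_or] at hne
      obtain ⟨x, -, hxu⟩ := (Nat.card_eq_two_iff' (1 : R)).1 hR2
      exact hne.2 (congrArg Subtype.val
        ((hxu ⟨r, hr⟩ fun h => hne.1 (congrArg Subtype.val h)).trans
          (hxu ⟨z, hzR⟩ fun h => hz1 (congrArg Subtype.val h)).symm))
    have hzR' : ∀ r ∈ ({1, z} : Set G), r ∈ R := by
      rintro r (rfl | rfl)
      exacts [one_mem R, hzR]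
    set E := W ⊔ Subgroup.zpowers e with hE
    have hWa : ∀ w ∈ W, w⁻¹ * (a * w * a⁻¹) ∈ ({1, z} : Set G) := fun w hw => by
      rw [hinvW w hw]
      exact hR _ (hRin w hw)
    have hEdec : ∀ x ∈ E, x ∈ W ∨ e⁻¹ * x ∈ W := by
      intro x hx
      rw [hE, ← SetLike.mem_coe, Subgroup.normal_mul] at hx
      obtain ⟨w, hw, _, ⟨i, rfl⟩, rfl⟩ := hx
      obtain ⟨l, rfl | rfl⟩ := Int.even_or_odd' i
      · left
        change w * e ^ (2 * l) ∈ W
        rw [zpow_mul, zpow_two, ← pow_two]
        exact mul_mem hw (zpow_mem he2 l)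
      · right
        change e⁻¹ * (w * e ^ (2 * l + 1)) ∈ W
        rw [← mul_assoc, ← ((mem_centralizer'.1 heC w hw).inv_left).eq.symm, mul_assoc,
          ← zpow_neg_one, ← zpow_add, show -1 + (2 * l + 1) = 2 * l by ring, zpow_mul, zpow_two,
          ← pow_two]
        exact mul_mem hw (zpow_mem he2 l)
    have hEn : E.Normal := by
      refine ⟨fun x hx g => ?_⟩
      have heE : e ∈ E := Subgroup.mem_sup_right (Subgroup.mem_zpowers e)
      have hconj : g * e * g⁻¹ ∈ E := by
        have := mul_mem heE (Subgroup.mem_sup_left (T := Subgroup.zpowers e) (hestep g))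
        rwa [mul_inv_cancel_left] at this
      rcases hEdec x hx with h | h
      · exact Subgroup.mem_sup_left (hnorm x h g)
      · rw [show g * x * g⁻¹ = (g * e * g⁻¹) * (g * (e⁻¹ * x) * g⁻¹) by group]
        exact mul_mem hconj (Subgroup.mem_sup_left (hnorm _ h g))
    have hCE : C ≤ E := by
      by_contra hnot
      obtain ⟨y, hyC, -, hyE, -, hy⟩ := exists_step h2 ⊤ C E (by
        obtain ⟨x, hx, hxE⟩ := SetLike.not_le_iff_exists.1 hnot
        exact ⟨x, hx, Subgroup.mem_top x, hxE⟩)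
      have ht := hy a (Subgroup.mem_top a)
      set t := y⁻¹ * (a * y * a⁻¹) with htdef
      rcases hEdec t ht with h | h
      · exact hyE (by
          have h3 := huniq y hyC e heC (fun h' => hyE (Subgroup.mem_sup_left h')) heW h (hestep a)
          have := mul_mem (Subgroup.mem_sup_left (T := Subgroup.zpowers e) h3)
            (E.inv_mem (Subgroup.mem_sup_right (Subgroup.mem_zpowers e)))
          rwa [mul_inv_cancel_right] at this)
      · set w := e⁻¹ * t with hw
        set u := e⁻¹ * (a * e * a⁻¹) with hu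
        have h1 : a * t * a⁻¹ = t⁻¹ := by
          calc a * t * a⁻¹ = a * y⁻¹ * a * y * (a * a)⁻¹ := by rw [htdef]; group
            _ = a * y⁻¹ * a⁻¹ * y := by rw [ha, hai]; group
            _ = _ := by rw [htdef]; group
        have h3 : e * u * (a * w * a⁻¹) = w⁻¹ * e⁻¹ := by
          calc e * u * (a * w * a⁻¹) = a * (e * w) * a⁻¹ := by rw [hu]; group
            _ = t⁻¹ := by rw [hw, mul_inv_cancel_left, h1]
            _ = _ := by rw [hw]; group
        refine heW (hmemW e heC ?_)
        have h4 : u = z⁻¹ * (w * (a * w * a⁻¹)⁻¹) := by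
          calc u = e⁻¹ * (e * u * (a * w * a⁻¹)) * (a * w * a⁻¹)⁻¹ := by group
            _ = e⁻¹ * (w⁻¹ * e⁻¹) * (a * w * a⁻¹)⁻¹ := by rw [h3]
            _ = e⁻¹ * (e⁻¹ * w⁻¹) * (a * w * a⁻¹)⁻¹ := by
              rw [(mem_centralizer'.1 heC w h).inv_inv.eq]
            _ = _ := by rw [hinvW w h, hzdef, pow_two]; group
        rw [show e⁻¹ * (a * e * a⁻¹) = u from rfl, h4, hinvW _ (hnorm w h a)]
        exact mul_mem (inv_mem hzR) (hRin w h)
    have hdec : ∀ x ∈ C, x ∉ W → e⁻¹ * x ∈ W := fun x hx hxW =>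
      (hEdec x (hCE hx)).resolve_left hxW
    refine small_case h2 hWc hWe hW8 (hRF hzR).1 hzc hz1 (a := a)
      (fun x hx hxW => ⟨?_, hWa, fun h => hxW (hmemW x hx (hzR' _ h))⟩) (fun x hx y hy hxW hyW => ?_) H
    · have := hze _ (hdec x hx hxW)
      rwa [mul_inv_cancel_left] at this
    · have := mul_mem (inv_mem (hdec x hx hxW)) (hdec y hy hyW)
      rwa [show (e⁻¹ * x)⁻¹ * (e⁻¹ * y) = x⁻¹ * y by group] at this
  · have hca' := hca z (by rw [hzdef]; exact he2) hzc hz1 (fun ⟨w, hw, he⟩ => hzR (he ▸ hRin w hw))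
      ⟨e, heC, heW, hzdef.symm, hestep⟩
    set π := QuotientGroup.mk' W with hπ
    have hthin : ∃ c, Thin W c := by
      refine exists_thin h2 W (fun h => heW (h ▸ Subgroup.mem_top e)) ⟨π a, ?_⟩
      set Cb := Subgroup.centralizer ({π a} : Set (G ⧸ W)) with hCb
      set P := Cb.comap π with hP
      have hPin : ∀ g ∈ P, a⁻¹ * (g * a * g⁻¹) ∈ F := by
        intro g hg
        have hgW : a⁻¹ * (g * a * g⁻¹) ∈ W := by
          rw [← QuotientGroup.eq_one_iff, ← QuotientGroup.mk'_apply, ← hπ, map_mul, map_mul, map_mul,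
            map_inv, map_inv, Subgroup.mem_centralizer_singleton_iff.1 hg, mul_inv_cancel_right,
            inv_mul_cancel]
        refine hFmem hgW ?_
        rw [← hinvW _ hgW]
        calc a * (a⁻¹ * (g * a * g⁻¹))⁻¹ * a⁻¹
            = a * (g * a⁻¹ * g⁻¹) := by group
          _ = a⁻¹ * (g * a * g⁻¹) := by rw [hai]
          _ = _ := (hinvW _ hgW).symm
      let Φ : P ⧸ (Subgroup.centralizer ({a} : Set G)).subgroupOf P → F :=
        fun q => ⟨_, hPin _ q.out.2⟩
      have hΦ : Function.Injective Φ := by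
        intro p q hpq
        rw [← QuotientGroup.out_eq' p, ← QuotientGroup.out_eq' q, QuotientGroup.eq,
          Subgroup.mem_subgroupOf, Subgroup.mem_centralizer_singleton_iff]
        have h := mul_left_cancel (congrArg Subtype.val hpq)
        simp only [Subgroup.coe_mul, InvMemClass.coe_inv]
        rw [← mul_inv_eq_iff_eq_mul]
        calc (p.out : G)⁻¹ * q.out * a * ((p.out : G)⁻¹ * q.out)⁻¹
            = (p.out : G)⁻¹ * ((q.out : G) * a * (q.out : G)⁻¹) * p.out := by group
          _ = (p.out : G)⁻¹ * ((p.out : G) * a * (p.out : G)⁻¹) * p.out := by rw [h]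
          _ = a := by group
      have h1 : Nat.card P ≤ 32 := by
        have h := ((Subgroup.centralizer ({a} : Set G)).subgroupOf P).card_mul_index
        rw [← h]
        refine (Nat.mul_le_mul (?_ : _ ≤ 8)
          ((Nat.card_le_card_of_injective Φ hΦ).trans hF.le : _ ≤ 4)).trans le_rfl
        refine le_trans ?_ hca'
        exact Nat.card_le_card_of_injective
          (fun x => (⟨x.1.1, x.2⟩ : Subgroup.centralizer ({a} : Set G)))
          fun x y hxy => Subtype.ext (Subtype.ext (congrArg (fun q : (Subgroup.centralizer ({a} : Set G)) => q.1) hxy))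
      have h3 := P.card_mul_index
      rw [hP, Subgroup.index_comap_of_surjective _ (QuotientGroup.mk'_surjective W),
        Subgroup.card_eq_card_quotient_mul_card_subgroup W, hW8, ← Cb.card_mul_index] at h3
      have h4 : Nat.card P = Nat.card Cb * 8 := by
        refine Nat.eq_of_mul_eq_mul_right
          (Nat.pos_of_ne_zero (Subgroup.index_ne_zero_of_finite (H := Cb))) ?_
        rw [hP, h3]; ring
      omega
    obtain ⟨c, hcW, hc2, hcn, hsec⟩ := hthin
    rw [split H W]
    obtain ⟨hs, hs'⟩ := hsec H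
    obtain ⟨hf, heq⟩ := first_abelian (H := H) (K := H ⊓ W) (W := W) inf_le_left
      (fun x hx y hy => hWc x hx.2 y hy.2) fun k hk _ => hk.2
    rw [hW8] at hf heq
    by_cases hs2 : second W H ≤ 2
    · exact Nat.mul_le_mul hf hs2
    by_cases hf4 : (FourGen.sq H).relIndex (H ⊓ W) ≤ 4
    · exact Nat.mul_le_mul hf4 hs
    exfalso
    obtain ⟨hWK, hroot⟩ := heq (by omega)
    have htriv : ∀ w ∈ W, w ∈ FourGen.sq H → w = 1 := fun w hw hws => by
      obtain ⟨l, hl, he⟩ := hroot w (hWK hw) hws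
      rw [← he, hWe l hl.2]
    obtain ⟨h, hh, hch⟩ := hs'.resolve_left hs2
    have hhW : h ∉ W := fun h' => hcW (by simpa using mul_mem h' (inv_mem hch))
    have hhC : h ∈ C := mem_centralizer'.2 fun w hw =>
      mul_inv_eq_iff_eq_mul.1 (inv_mul_eq_one.1 (htriv _ (mul_mem (inv_mem hw) (hnorm w hw h))
        (comm_mem (hWK hw).1 hh))).symm
    set π := QuotientGroup.mk' W with hπ
    have hπW : ∀ g, π g = 1 ↔ g ∈ W := fun g => QuotientGroup.eq_one_iff g
    have hπh : π h = π c := (inv_mul_eq_one.1 (by rw [← map_inv, ← map_mul, hπW]; exact hch)).symm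
    have hh2 : h ^ 2 ∈ W := by rw [← hπW, map_pow, hπh, ← map_pow, hπW]; exact hc2
    refine hnoelem h hhC hhW (htriv _ hh2 (FourGen.sq_mem hh)) fun g => ?_
    rw [← hπW, map_mul, map_mul, map_mul, map_inv, map_inv, hπh, ← map_inv, ← map_inv, ← map_mul,
      ← map_mul, ← map_mul, hπW]
    exact hcn g

include h2 hWc hWe in
/-- A normal elementary abelian subgroup of order sixteen, its own centralizer. -/
theorem sixteen_case (hW16 : Nat.card W = 16) (hC : Subgroup.centralizer (W : Set G) ≤ W) {c : G}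
    (hthin : Thin W c) (hcW : Nat.card (W ⊓ Subgroup.centralizer {c} : Subgroup G) ≤ 4)
    (H : Subgroup G) : (FourGen.sq H).relIndex H ≤ 16 := by
  obtain ⟨-, -, -, hsec⟩ := hthin
  obtain ⟨hs, hs'⟩ := hsec H
  rw [split H W]
  set K := H ⊓ W with hK
  have hK16 : (FourGen.sq H).relIndex K ≤ 16 :=
    (first_abelian (H := H) (W := W) inf_le_left (fun x hx y hy => hWc x hx.2 y hy.2)
      fun k hk _ => hk.2).1.trans hW16.le
  have hinvK : ∀ k ∈ K, k⁻¹ = k := fun k hk =>
    inv_eq_of_mul_eq_one_left (by rw [← pow_two]; exact hWe k hk.2)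
  -- the map from `K` given by an element of `H` lands in the squares
  have hbound : ∀ h ∈ H, (FourGen.sq H).relIndex K ≤
      Nat.card (W ⊓ Subgroup.centralizer {h} : Subgroup G) := by
    intro h hh
    have hn : ∀ x ∈ K, h * x * h⁻¹ ∈ W := fun x hx => Subgroup.Normal.conj_mem inferInstance x hx.2 h
    let δ : K →* K := MonoidHom.mk'
      (fun x => ⟨x.1 * (h * x.1 * h⁻¹),
        K.mul_mem x.2 ⟨H.mul_mem (H.mul_mem hh x.2.1) (H.inv_mem hh), hn _ x.2⟩⟩)
      fun x y => Subtype.ext (by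
        change x.1 * y.1 * (h * (x.1 * y.1) * h⁻¹) = x.1 * (h * x.1 * h⁻¹) * (y.1 * (h * y.1 * h⁻¹))
        rw [← conj_mul]
        exact Commute.mul_mul_mul_comm (hWc _ y.2.2 _ (hn _ x.2)) _ _)
    have hle : δ.range ≤ (FourGen.sq H).subgroupOf K := by
      rintro _ ⟨x, rfl⟩
      refine Subgroup.mem_subgroupOf.2 ?_
      have h1 := comm_mem (x := x.1) x.2.1 hh
      rw [hinvK _ x.2] at h1
      exact h1
    have h1 : δ.range.index = Nat.card δ.ker := by
      have h1 := δ.range.card_mul_index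
      have h3 := δ.ker.card_mul_index
      rw [Subgroup.index_ker, ← h1, mul_comm] at h3
      exact (Nat.eq_of_mul_eq_mul_left Nat.card_pos h3).symm
    calc (FourGen.sq H).relIndex K ≤ δ.range.index :=
          Nat.le_of_dvd (Nat.pos_of_ne_zero Subgroup.index_ne_zero_of_finite)
            (Subgroup.index_dvd_of_le hle)
      _ = Nat.card δ.ker := h1
      _ ≤ _ := by
        refine Nat.card_le_card_of_injective (fun x => ⟨x.1.1, x.1.2.2,
          Subgroup.mem_centralizer_singleton_iff.2 ?_⟩) fun x y hxy =>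
          Subtype.ext (Subtype.ext
            (congrArg (fun q : (W ⊓ Subgroup.centralizer {h} : Subgroup G) => q.1) hxy))
        have h2' : x.1.1 * (h * x.1.1 * h⁻¹) = 1 := congrArg Subtype.val (MonoidHom.mem_ker.1 x.2)
        have h3 := eq_inv_of_mul_eq_one_right h2'
        rw [hinvK _ x.1.2, mul_inv_eq_iff_eq_mul] at h3
        exact h3.symm
  rcases hs' with hs2 | ⟨h, hh, hch⟩
  · by_cases hHW : H ≤ W
    · rw [second_eq_one hHW, mul_one]; exact hK16
    obtain ⟨h, hh, hhW⟩ := SetLike.not_le_iff_exists.1 hHW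
    have hlt : Nat.card (W ⊓ Subgroup.centralizer {h} : Subgroup G) < 16 := by
      refine hW16 ▸ (Subgroup.card_le_of_le inf_le_left).lt_of_ne fun he => hhW (hC ?_)
      have h3 := Subgroup.eq_of_le_of_card_ge inf_le_left he.ge
      exact mem_centralizer'.2 fun w hw =>
        (Subgroup.mem_centralizer_singleton_iff.1 ((h3.symm ▸ hw : w ∈ W ⊓ _).2)).symm
    have hle : Nat.card (W ⊓ Subgroup.centralizer {h} : Subgroup G) ≤ 8 := by
      have hdvd := Subgroup.card_dvd_of_le (inf_le_left : W ⊓ Subgroup.centralizer {h} ≤ W)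
      rw [hW16] at hdvd
      obtain ⟨d, hd⟩ := hdvd
      rcases (show d = 0 ∨ d = 1 ∨ 2 ≤ d by omega) with rfl | rfl | hd2
      · omega
      · omega
      · have := Nat.mul_le_mul_left (Nat.card (W ⊓ Subgroup.centralizer {h} : Subgroup G)) hd2
        omega
    exact Nat.mul_le_mul ((hbound h hh).trans hle) hs2
  · refine Nat.mul_le_mul (((hbound h hh).trans (Subgroup.card_le_of_le fun w hw => ?_)).trans hcW) hs
    refine ⟨hw.1, Subgroup.mem_centralizer_singleton_iff.2 ?_⟩
    have h1 : Commute w h := Subgroup.mem_centralizer_singleton_iff.1 hw.2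
    have h3 : Commute w (h * (c⁻¹ * h)⁻¹) := h1.mul_right (hWc w hw.1 _ hch).inv_right
    rw [show h * (c⁻¹ * h)⁻¹ = c by group] at h3
    exact h3.eq

omit h2 hWc hWe [W.Normal] in
/-- Harada's lemma, as a bound on the squares. -/
theorem bound (h2 : IsPGroup 2 G) (A : Subgroup G) (hAc : ∀ x ∈ A, ∀ y ∈ A, Commute x y)
    (hAe : ∀ x ∈ A, x ^ 2 = 1) (hA8 : Nat.card A = 8)
    (hA : ∀ g, (∀ x ∈ A, Commute g x) → g ∈ A) (H : Subgroup G) :
    (FourGen.sq H).relIndex H ≤ 16 := by
  haveI := Fact.mk Nat.prime_two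
  by_cases hno : FourGen.NoEight G
  · exact FourGen.relIndex_sq_sixteen h2 hno H
  obtain ⟨W, hW, hWmax⟩ := Set.exists_max_image
    {X : Subgroup G | X.Normal ∧ IsMulCommutative X ∧ ∀ x ∈ X, x ^ 2 = 1}
    (fun X : Subgroup G => Nat.card X) (Set.toFinite _)
    ⟨⊥, inferInstance, inferInstance, fun x hx => by
      rw [Subgroup.mem_bot] at hx; rw [hx, one_pow]⟩
  obtain ⟨hWn, hWab, hWe⟩ := hW
  haveI := hWn
  have hWc : ∀ x ∈ W, ∀ y ∈ W, Commute x y := fun x hx y hy =>
    congrArg Subtype.val (hWab.1.1 ⟨x, hx⟩ ⟨y, hy⟩)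
  obtain ⟨n, hn⟩ := IsPGroup.iff_card.1 (h2.to_subgroup W)
  have hn3 : 3 ≤ n := by
    by_contra hlt
    refine hno fun X hXn hXc hXe => ?_
    have h1 := hWmax X ⟨hXn, hXc, hXe⟩
    have h3 := Nat.pow_le_pow_right (show 0 < 2 by norm_num) (show n ≤ 2 by omega)
    omega
  have hW8le : 8 ≤ Nat.card W := hn ▸ Nat.pow_le_pow_right (show 0 < 2 by norm_num) hn3
  set C := Subgroup.centralizer (W : Set G) with hCdef
  haveI : C.Normal := Subgroup.normal_centralizer
  have hnorm : ∀ x ∈ W, ∀ g : G, g * x * g⁻¹ ∈ W := fun x hx g => hWn.conj_mem x hx g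
  by_cases hAW : A ≤ W
  · have hWA : W = A :=
      le_antisymm (fun w hw => hA w fun x hx => hWc w hw x (hAW hx)) hAW
    obtain ⟨z, hz, hz1, hzc⟩ := Fusion.exists_central_of_normal h2 W fun h => by
      rw [h, Subgroup.card_bot] at hW8le; omega
    have hCW : C ≤ W := fun g hg => hWA ▸ hA g (fun x hx => mem_centralizer'.1 hg x (hAW hx))
    exact small_case h2 hWc hWe (hWA ▸ hA8) hz (fun g => Subgroup.mem_center_iff.1 hzc g) hz1
      (a := 1) (fun x hx hxW => absurd (hCW hx) hxW)
      (fun x hx y hy hxW _ => absurd (hCW hx) hxW) H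
  obtain ⟨z, hzW, hz1, hzc⟩ := Fusion.exists_central_of_normal h2 W fun h => by
    rw [h, Subgroup.card_bot] at hW8le; omega
  replace hzc : ∀ g, Commute g z := fun g => Subgroup.mem_center_iff.1 hzc g
  have hzA : z ∈ A := hA z fun x _ => (hzc x).symm
  set F := W ⊓ A with hFdef
  have hzF : z ∈ F := ⟨hzW, hzA⟩
  obtain ⟨k, hk⟩ := IsPGroup.iff_card.1 (h2.to_subgroup F)
  have hF1 : 1 ≤ k := by
    by_contra h0
    obtain rfl : k = 0 := by omega
    exact hz1 (by
      have := Subgroup.card_eq_one.1 hk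
      rw [this] at hzF
      exact hzF)
  have hk2 : k ≤ 2 := by
    by_contra h
    have h1 : 8 ≤ Nat.card F := hk ▸ Nat.pow_le_pow_right (show 0 < 2 by norm_num) (show 3 ≤ k by omega)
    have h3 : F = A := Subgroup.eq_of_le_of_card_ge inf_le_right (by omega)
    exact hAW (h3 ▸ inf_le_left)
  have hsq1 : ∀ x ∈ A, x * x = 1 := fun x hx => by rw [← pow_two]; exact hAe x hx
  -- an element of `A` outside `W`, and one outside the subgroup it generates with `F`
  have hgenA : ∀ a ∈ A, a ∉ W → ∀ b ∈ A, b ∉ F ⊔ Subgroup.zpowers a →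
      ∀ g, (∀ f ∈ F, Commute g f) → Commute g a → Commute g b → g ∈ A := by
    intro a ha haW b hb hbL g hgF hga hgb
    refine hA g ?_
    set X := A ⊓ Subgroup.centralizer {g} with hX
    suffices h : X = A by
      intro x hx
      exact (Subgroup.mem_centralizer_singleton_iff.1 ((h.symm ▸ hx : x ∈ X).2)).symm
    refine Subgroup.eq_of_le_of_card_ge inf_le_left ?_
    set L := F ⊔ Subgroup.zpowers a with hL
    have hLX : L ≤ X := sup_le
      (fun f hf => ⟨hf.2, Subgroup.mem_centralizer_singleton_iff.2 (hgF f hf).symm.eq⟩)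
      (Subgroup.zpowers_le.2 ⟨ha, Subgroup.mem_centralizer_singleton_iff.2 hga.symm.eq⟩)
    have h1 : Nat.card F < Nat.card L :=
      (Subgroup.card_le_of_le le_sup_left).lt_of_ne fun he => haW
        ((Subgroup.eq_of_le_of_card_ge le_sup_left he.ge).symm ▸
          Subgroup.mem_sup_right (Subgroup.mem_zpowers a) : a ∈ F).1
    have h3 : Nat.card L < Nat.card X :=
      (Subgroup.card_le_of_le hLX).lt_of_ne fun he => hbL
        ((Subgroup.eq_of_le_of_card_ge hLX he.ge).symm ▸
          ⟨hb, Subgroup.mem_centralizer_singleton_iff.2 hgb.symm.eq⟩)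
    obtain ⟨i, hi⟩ := IsPGroup.iff_card.1 (h2.to_subgroup X)
    obtain ⟨j, hj⟩ := IsPGroup.iff_card.1 (h2.to_subgroup L)
    rw [hk, hj, Nat.pow_lt_pow_iff_right (by norm_num)] at h1
    rw [hj, hi, Nat.pow_lt_pow_iff_right (by norm_num)] at h3
    rw [hA8, hi]
    exact Nat.pow_le_pow_right (show 0 < 2 by norm_num) (show 3 ≤ i by omega)
  have hFc : ∀ g, g ∈ W → ∀ f ∈ F, Commute g f := fun g hg f hf => hWc g hg f hf.1
  have hF2 : k = 1 → ∀ f ∈ F, f = 1 ∨ f = z := by
    intro hk1 f hf
    obtain ⟨x, -, hxu⟩ := (Nat.card_eq_two_iff' (1 : F)).1 (by rw [hk, hk1, pow_one])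
    by_cases hf1 : f = 1
    · exact Or.inl hf1
    · right
      exact congrArg Subtype.val ((hxu ⟨f, hf⟩ fun h => hf1 (congrArg Subtype.val h)).trans
        (hxu ⟨z, hzF⟩ fun h => hz1 (congrArg Subtype.val h)).symm)
  -- the fixed points of an element of `A` outside `W`
  have hfix4 : ∀ a ∈ A, a ∉ W → Nat.card (W ⊓ Subgroup.centralizer {a} : Subgroup G) ≤ 4 := by
    intro a ha haW
    set U := W ⊓ Subgroup.centralizer {a} with hU
    by_cases hb : ∃ b ∈ A, b ∉ F ⊔ Subgroup.zpowers a
    · obtain ⟨b, hbA, hbL⟩ := hb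
      have hUn : ∀ u ∈ U, b * u * b⁻¹ ∈ U := fun u hu => ⟨hnorm u hu.1 b,
        Subgroup.mem_centralizer_singleton_iff.2 (by
          calc b * u * b⁻¹ * a = b * (u * a) * b⁻¹ := by
                rw [mul_assoc (b * u), ((hAc b hbA a ha).inv_left).eq]; group
            _ = b * (a * u) * b⁻¹ := by rw [Subgroup.mem_centralizer_singleton_iff.1 hu.2]
            _ = _ := by rw [← mul_assoc b a u, (hAc b hbA a ha).eq]; group)⟩
      have h1 := fixed_sq (a := b) (X := U) (fun x hx y hy => hWc x hx.1 y hy.1)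
        (fun x hx => hWe x hx.1) hUn fun x _ => by rw [hsq1 b hbA]; exact Commute.one_left x
      have h3 : U ⊓ Subgroup.centralizer {b} ≤ F := fun u hu => ⟨hu.1.1, hgenA a ha haW b hbA hbL u
        (hFc u hu.1.1) (Subgroup.mem_centralizer_singleton_iff.1 hu.1.2)
        (Subgroup.mem_centralizer_singleton_iff.1 hu.2)⟩
      have h4 := Subgroup.card_le_of_le h3
      -- if `F` has order four then `F` and `a` generate `A`
      rcases (show k = 1 ∨ k = 2 by omega) with rfl | rfl
      · have h5 := Nat.mul_le_mul h4 h4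
        rw [hk] at h5
        exact h1.trans h5
      · exfalso
        have hlt : Nat.card F < Nat.card (F ⊔ Subgroup.zpowers a : Subgroup G) :=
          (Subgroup.card_le_of_le le_sup_left).lt_of_ne fun he => haW
            ((Subgroup.eq_of_le_of_card_ge le_sup_left he.ge).symm ▸
              Subgroup.mem_sup_right (Subgroup.mem_zpowers a) : a ∈ F).1
        obtain ⟨i, hi⟩ := IsPGroup.iff_card.1
          (h2.to_subgroup (F ⊔ Subgroup.zpowers a : Subgroup G))
        rw [hk, hi, Nat.pow_lt_pow_iff_right (by norm_num)] at hlt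
        have h5 : F ⊔ Subgroup.zpowers a = A := Subgroup.eq_of_le_of_card_ge
          (sup_le inf_le_right (Subgroup.zpowers_le.2 ha))
          (by rw [hA8, hi]; exact Nat.pow_le_pow_right (show 0 < 2 by norm_num) (show 3 ≤ i by omega))
        exact hbL (h5 ▸ hbA)
    · push Not at hb
      have h3 : U ≤ F := fun u hu => ⟨hu.1, hA u fun x hx => by
        have hle : F ⊔ Subgroup.zpowers a ≤ Subgroup.centralizer {u} := sup_le
          (fun f hf => Subgroup.mem_centralizer_singleton_iff.2 (hFc u hu.1 f hf).symm.eq)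
          (Subgroup.zpowers_le.2 (Subgroup.mem_centralizer_singleton_iff.2
            (Subgroup.mem_centralizer_singleton_iff.1 hu.2).symm))
        exact (Subgroup.mem_centralizer_singleton_iff.1 (hle (hb x hx))).symm⟩
      exact (Subgroup.card_le_of_le h3).trans
        (hk ▸ Nat.pow_le_pow_right (show 0 < 2 by norm_num) hk2)
  have hAC : ∀ a ∈ A, a ∈ C → a ∈ W := by
    intro a ha haC
    by_contra haW
    have h1 : W ⊓ Subgroup.centralizer {a} = W := inf_eq_left.2 fun w hw =>
      Subgroup.mem_centralizer_singleton_iff.2 (mem_centralizer'.1 haC w hw).symm.eq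
    have := hfix4 a ha haW
    rw [h1] at this
    omega
  obtain ⟨a, haA, haW⟩ := SetLike.not_le_iff_exists.1 hAW
  set U := W ⊓ Subgroup.centralizer {a} with hUdef
  have hU4 : Nat.card U ≤ 4 := hfix4 a haA haW
  have haa := hsq1 a haA
  obtain ⟨R, hRU, hcard, hRin, hRout⟩ := fixed_map (a := a) hWc hWe (fun x hx => hnorm x hx a)
    fun x _ => by rw [haa]; exact Commute.one_left x
  rw [← hUdef] at hRU hcard
  have hW16 : Nat.card W ≤ 16 := by
    rw [hcard]
    exact Nat.mul_le_mul hU4 ((Subgroup.card_le_of_le hRU).trans hU4)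
  have hUeq : Nat.card U = 4 := by
    have h1 : Nat.card W ≤ Nat.card U * Nat.card U :=
      hcard ▸ Nat.mul_le_mul_left _ (Subgroup.card_le_of_le hRU)
    have : 3 ≤ Nat.card U := by
      by_contra h
      have := Nat.mul_le_mul (show Nat.card U ≤ 2 by omega) (show Nat.card U ≤ 2 by omega)
      omega
    obtain ⟨i, hi⟩ := IsPGroup.iff_card.1 (h2.to_subgroup U)
    rw [hi] at this hU4 ⊢
    have h5 : i ≤ 2 := (Nat.pow_le_pow_iff_right (by norm_num)).1 (show 2 ^ i ≤ 2 ^ 2 from hU4)
    have h6 : ¬ i ≤ 1 := fun h => by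
      have := Nat.pow_le_pow_right (show 0 < 2 by norm_num) h
      omega
    rw [show i = 2 by omega]
    rfl
  have hUsub : k = 2 → U = F := fun hk' =>
    (Subgroup.eq_of_le_of_card_ge (show F ≤ U from fun f hf => ⟨hf.1,
      Subgroup.mem_centralizer_singleton_iff.2 (hAc f hf.2 a haA).eq⟩)
      (by rw [hk, hk', hUeq]; rfl)).symm
  have hfour : k = 2 → ∀ g, (∀ f ∈ F, Commute g f) → Commute g a → g ∈ A := by
    intro hk' g hgF hga
    refine hA g fun x hx => ?_
    set L := F ⊔ Subgroup.zpowers a with hL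
    have hLA : L = A := by
      refine Subgroup.eq_of_le_of_card_ge (sup_le inf_le_right (Subgroup.zpowers_le.2 haA)) ?_
      have hlt : Nat.card F < Nat.card L :=
        (Subgroup.card_le_of_le le_sup_left).lt_of_ne fun he => haW
          ((Subgroup.eq_of_le_of_card_ge le_sup_left he.ge).symm ▸
            Subgroup.mem_sup_right (Subgroup.mem_zpowers a) : a ∈ F).1
      obtain ⟨i, hi⟩ := IsPGroup.iff_card.1 (h2.to_subgroup L)
      rw [hk, hi, Nat.pow_lt_pow_iff_right (by norm_num)] at hlt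
      rw [hA8, hi]
      exact Nat.pow_le_pow_right (show 0 < 2 by norm_num) (show 3 ≤ i by omega)
    have hle : L ≤ Subgroup.centralizer {g} := sup_le
      (fun f hf => Subgroup.mem_centralizer_singleton_iff.2 (hgF f hf).symm.eq)
      (Subgroup.zpowers_le.2 (Subgroup.mem_centralizer_singleton_iff.2 hga.symm.eq))
    exact (Subgroup.mem_centralizer_singleton_iff.1 (hle (hLA.symm ▸ hx))).symm
  -- if `F` has order two then a second element `b` takes `U` onto `F`
  have htwo : k = 1 → ∃ b ∈ A, b ∉ F ⊔ Subgroup.zpowers a ∧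
      ∃ u ∈ U, u * (b * u * b⁻¹) = z := by
    intro hk'
    have hLlt : F ⊔ Subgroup.zpowers a < A := by
      refine lt_of_le_of_ne (sup_le inf_le_right (Subgroup.zpowers_le.2 haA)) fun hL => ?_
      have h3 : U ≤ F := fun u hu => ⟨hu.1, hA u fun x hx => by
        have hle : F ⊔ Subgroup.zpowers a ≤ Subgroup.centralizer {u} := sup_le
          (fun f hf => Subgroup.mem_centralizer_singleton_iff.2 (hFc u hu.1 f hf).symm.eq)
          (Subgroup.zpowers_le.2 (Subgroup.mem_centralizer_singleton_iff.2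
            (Subgroup.mem_centralizer_singleton_iff.1 hu.2).symm))
        exact (Subgroup.mem_centralizer_singleton_iff.1 (hle (hL.symm ▸ hx))).symm⟩
      have := Subgroup.card_le_of_le h3
      rw [hUeq, hk, hk'] at this
      omega
    obtain ⟨b, hbA, hbL⟩ := SetLike.exists_of_lt hLlt
    refine ⟨b, hbA, hbL, ?_⟩
    have hUn : ∀ u ∈ U, b * u * b⁻¹ ∈ U := fun u hu => ⟨hnorm u hu.1 b,
      Subgroup.mem_centralizer_singleton_iff.2 (by
        calc b * u * b⁻¹ * a = b * (u * a) * b⁻¹ := by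
              rw [mul_assoc (b * u), ((hAc b hbA a haA).inv_left).eq]; group
          _ = b * (a * u) * b⁻¹ := by rw [Subgroup.mem_centralizer_singleton_iff.1 hu.2]
          _ = _ := by rw [← mul_assoc b a u, (hAc b hbA a haA).eq]; group)⟩
    obtain ⟨Q, hQ, hQcard, -, hQout⟩ := fixed_map (a := b) (X := U) (fun x hx y hy => hWc x hx.1 y hy.1)
      (fun x hx => hWe x hx.1) hUn fun x _ => by rw [hsq1 b hbA]; exact Commute.one_left x
    have h3 : U ⊓ Subgroup.centralizer {b} ≤ F := fun u hu => ⟨hu.1.1, hgenA a haA haW b hbA hbL u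
      (hFc u hu.1.1) (Subgroup.mem_centralizer_singleton_iff.1 hu.1.2)
      (Subgroup.mem_centralizer_singleton_iff.1 hu.2)⟩
    obtain ⟨q, hq, hq1⟩ : ∃ q ∈ Q, q ≠ 1 := by
      by_contra hcon
      push Not at hcon
      have hQ1 : Nat.card Q ≤ 1 := by
        rw [(Subgroup.eq_bot_iff_forall Q).2 hcon, Subgroup.card_bot]
      have h5 := Nat.mul_le_mul (Subgroup.card_le_of_le h3) hQ1
      rw [← hQcard, hUeq, hk, hk'] at h5
      omega
    rcases hF2 hk' q (h3 (hQ hq)) with h | h
    · exact absurd h hq1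
    · exact h ▸ hQout q hq
  have hk12 : k = 1 ∨ k = 2 := by omega
  have hfix : ∀ x ∈ C, Commute x a → x ∈ W := by
    rcases hk12 with hk' | hk'
    · obtain ⟨b, hbA, hbL, u, hu, huz⟩ := htwo hk'
      intro x hx hxa
      by_contra hxW
      obtain ⟨m, hmC, hmP, hmW, -, hm⟩ := exists_step h2 (Subgroup.centralizer {a}) C W
        ⟨x, hx, Subgroup.mem_centralizer_singleton_iff.2 hxa.eq, hxW⟩
      have hma : Commute m a := Subgroup.mem_centralizer_singleton_iff.1 hmP
      have hba : Commute b a := hAc b hbA a haA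
      set v := m⁻¹ * (b * m * b⁻¹) with hv
      have hvW : v ∈ W := hm b (Subgroup.mem_centralizer_singleton_iff.2 hba.eq)
      have hvinv : v⁻¹ = v := inv_eq_of_mul_eq_one_left (by rw [← pow_two]; exact hWe v hvW)
      have hva : Commute v a :=
        hma.inv_left.mul_left (((hba.mul_left hma).mul_left hba.inv_left))
      have hvb : Commute v b := by
        have h1 : b * v * b⁻¹ = v := by
          conv_rhs => rw [← hvinv]
          calc b * v * b⁻¹ = (b * m⁻¹ * b⁻¹) * ((b * b) * m * (b * b)⁻¹) := by rw [hv]; group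
            _ = _ := by rw [hsq1 b hbA, hv]; group
        exact (mul_inv_eq_iff_eq_mul.1 h1).symm
      have hvF : v ∈ F := ⟨hvW, hgenA a haA haW b hbA hbL v (hFc v hvW) hva hvb⟩
      have hmF : ∀ f ∈ F, Commute m f := fun f hf => mem_centralizer'.1 hmC f hf.1
      rcases hF2 hk' v hvF with h1 | h1
      · have hmb : Commute m b :=
          ((mul_inv_eq_iff_eq_mul.1 (inv_mul_eq_one.1 h1).symm).symm : m * b = b * m)
        exact hmW (hAC m (hgenA a haA haW b hbA hbL m hmF hma hmb) hmC)
      · have hmu : m * u ∈ C := C.mul_mem hmC (mem_centralizer'.2 (hWc u hu.1))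
        have hmub : Commute (m * u) b := by
          have h3 : b * (m * u) * b⁻¹ = m * u := by
            calc b * (m * u) * b⁻¹ = m * v * (b * u * b⁻¹) := by rw [hv]; group
              _ = m * (u * (b * u * b⁻¹)) * (b * u * b⁻¹) := by rw [h1, huz]
              _ = m * u * ((b * u * b⁻¹) * (b * u * b⁻¹)) := by group
              _ = _ := by rw [← pow_two, hWe _ (hnorm u hu.1 b), mul_one]
          exact (mul_inv_eq_iff_eq_mul.1 h3).symm
        have hmem := hAC _ (hgenA a haA haW b hbA hbL (m * u)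
          (fun f hf => (hmF f hf).mul_left (hFc u hu.1 f hf))
          (hma.mul_left (Subgroup.mem_centralizer_singleton_iff.1 hu.2)) hmub) hmu
        exact hmW (by simpa using mul_mem hmem (inv_mem hu.1))
    · exact fun x hx hxa => hAC x (hfour hk' x (fun f hf => mem_centralizer'.1 hx f hf.1) hxa) hx
  have hCa8 : ∀ z₀ ∈ W, (∀ g, Commute g z₀) → z₀ ≠ 1 → Nat.card R = 2 →
      (¬ ∃ w ∈ W, w * (a * w * a⁻¹) = z₀) → Nat.card (Subgroup.centralizer ({a} : Set G)) ≤ 8 := by
    intro z₀ hz₀ hz₀c hz₀1 hR2 hne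
    have hzz : k = 1 → z₀ = z → False := by
      -- `z₀` is then the nontrivial element of `R`
      intro hk'
      rintro rfl
      · obtain ⟨b, hbA, hbL, -⟩ := htwo hk'
        obtain ⟨r, hr1, hru⟩ := (Nat.card_eq_two_iff' (1 : R)).1 hR2
        have hba : Commute b a := hAc b hbA a haA
        have hrb : b * r.1 * b⁻¹ ∈ R := by
          obtain ⟨w, hw, hwe⟩ := hRout r.1 r.2
          have := hRin _ (hnorm w hw b)
          rwa [show b * w * b⁻¹ * (a * (b * w * b⁻¹) * a⁻¹) = b * r.1 * b⁻¹ by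
            rw [← hwe]
            calc b * w * b⁻¹ * (a * (b * w * b⁻¹) * a⁻¹)
                = b * w * b⁻¹ * ((a * b) * w * (a * b)⁻¹) := by group
              _ = b * w * b⁻¹ * ((b * a) * w * (b * a)⁻¹) := by rw [hba.eq]
              _ = _ := by group] at this
        have hfb : b * r.1 * b⁻¹ = r.1 := congrArg Subtype.val (hru ⟨_, hrb⟩ fun h =>
          hr1 (Subtype.ext (conj_eq_one_iff.1 (congrArg Subtype.val h))))
        rcases hF2 hk' r.1 ⟨(hRU r.2).1, hgenA a haA haW b hbA hbL r.1 (hFc _ (hRU r.2).1)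
          (Subgroup.mem_centralizer_singleton_iff.1 (hRU r.2).2)
          (mul_inv_eq_iff_eq_mul.1 hfb).symm⟩ with h | h
        · exact hr1 (Subtype.ext h)
        · obtain ⟨w, hw, hwe⟩ := hRout r.1 r.2
          exact hne ⟨w, hw, hwe.trans h⟩
    rcases hk12 with hk' | hk'
    · exfalso
      rcases hF2 hk' z₀ ⟨hz₀, hA z₀ fun x _ => (hz₀c x).symm⟩ with h | h
      · exact hz₀1 h
      · exact hzz hk' h
    refine (Subgroup.card_le_of_le fun g hg => ?_).trans hA8.le
    have hga : Commute g a := Subgroup.mem_centralizer_singleton_iff.1 hg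
    obtain ⟨r, hr1, hru⟩ := (Nat.card_eq_two_iff' (1 : R)).1 hR2
    obtain ⟨w, hw, hwe⟩ := hRout r.1 r.2
    have hgr : g * r.1 * g⁻¹ = r.1 := by
      have hrg : g * r.1 * g⁻¹ ∈ R := by
        have := hRin _ (hnorm w hw g)
        rwa [show g * w * g⁻¹ * (a * (g * w * g⁻¹) * a⁻¹) = g * r.1 * g⁻¹ by
          rw [← hwe]
          calc g * w * g⁻¹ * (a * (g * w * g⁻¹) * a⁻¹)
              = g * w * g⁻¹ * ((a * g) * w * (a * g)⁻¹) := by group
            _ = g * w * g⁻¹ * ((g * a) * w * (g * a)⁻¹) := by rw [hga.eq]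
            _ = _ := by group] at this
      exact congrArg Subtype.val (hru ⟨_, hrg⟩ fun h =>
        hr1 (Subtype.ext (conj_eq_one_iff.1 (congrArg Subtype.val h))))
    refine hfour hk' g (fun f hf => ?_) hga
    set X := F ⊓ Subgroup.centralizer {g} with hX
    have hrF : r.1 ∈ X :=
      ⟨hUsub hk' ▸ hRU r.2, Subgroup.mem_centralizer_singleton_iff.2 (mul_inv_eq_iff_eq_mul.1 hgr).symm⟩
    have hzX : z₀ ∈ X :=
      ⟨⟨hz₀, hA z₀ fun x _ => (hz₀c x).symm⟩, Subgroup.mem_centralizer_singleton_iff.2 (hz₀c g).symm.eq⟩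
    have h3 : 3 ≤ Nat.card X := by
      let v : Fin 3 → X := ![1, ⟨r.1, hrF⟩, ⟨z₀, hzX⟩]
      have hv : Function.Injective v := by
        have n1 : r.1 ≠ 1 := fun h => hr1 (Subtype.ext h)
        have n2 : r.1 ≠ z₀ := fun h => hne ⟨w, hw, hwe.trans h⟩
        intro i j hij
        fin_cases i <;> fin_cases j <;>
          first
            | rfl
            | exact absurd (congrArg (fun q : X => q.1) hij) (by simp [v, n1, n2, hz₀1, n1.symm, n2.symm, Ne.symm hz₀1])
      simpa using Nat.card_le_card_of_injective v hv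
    have hXF : X = F := by
      refine Subgroup.eq_of_le_of_card_ge inf_le_left ?_
      obtain ⟨i, hi⟩ := IsPGroup.iff_card.1 (h2.to_subgroup X)
      rw [hi] at h3
      rw [hk, hk', hi]
      exact Nat.pow_le_pow_right (show 0 < 2 by norm_num) (by
        by_contra h
        have := Nat.pow_le_pow_right (show 0 < 2 by norm_num) (show i ≤ 1 by omega)
        omega)
    exact (Subgroup.mem_centralizer_singleton_iff.1 ((hXF.symm ▸ hf : f ∈ X).2)).symm
  by_cases hW8 : Nat.card W = 8
  · refine eight_case h2 hWc hWe hW8 (fun X h1 h3 h4 => hW8 ▸ hWmax X ⟨h1, h3, h4⟩) haa hUeq hfix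
      (fun z₀ h1 h3 h4 h5 _ => hCa8 z₀ h1 h3 h4 ?_ h5) H
    rw [hUeq, hW8] at hcard
    omega
  have hWeq : Nat.card W = 16 := by
    rw [hn] at hW8 hW16 ⊢
    have : n ≤ 4 := (Nat.pow_le_pow_iff_right (by norm_num)).1 (show 2 ^ n ≤ 2 ^ 4 from hW16)
    have : n ≠ 3 := fun h => hW8 (by rw [h]; rfl)
    rw [show n = 4 by omega]
    rfl
  have hRU' : R = U := Subgroup.eq_of_le_of_card_ge hRU (by
    rw [hUeq, hWeq] at hcard
    omega)
  have hroot : ∀ v ∈ W, Commute v a → ∃ w ∈ W, w * (a * w * a⁻¹) = v := fun v hv hva =>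
    hRout v (hRU'.symm ▸ ⟨hv, Subgroup.mem_centralizer_singleton_iff.2 hva.eq⟩)
  -- lifting elements centralizing `a` modulo `W`
  have hlift : ∀ g, g⁻¹ * (a * g * a⁻¹) ∈ W → ∃ w ∈ W, Commute (g * w) a := by
    intro g hg
    set v := g⁻¹ * (a * g * a⁻¹) with hv
    have hvinv : v⁻¹ = v := inv_eq_of_mul_eq_one_left (by rw [← pow_two]; exact hWe v hg)
    have hva : a * v * a⁻¹ = v := by
      conv_rhs => rw [← hvinv]
      calc a * v * a⁻¹ = (a * g⁻¹ * a⁻¹) * ((a * a) * g * (a * a)⁻¹) := by rw [hv]; group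
        _ = _ := by rw [haa, hv]; group
    obtain ⟨w, hw, hwe⟩ := hroot v hg (mul_inv_eq_iff_eq_mul.1 hva).symm
    refine ⟨w, hw, ?_⟩
    have h3 : a * (g * w) * a⁻¹ = g * w := by
      calc a * (g * w) * a⁻¹ = g * v * (a * w * a⁻¹) := by rw [hv]; group
        _ = g * (w * (a * w * a⁻¹)) * (a * w * a⁻¹) := by rw [hwe]
        _ = g * w * ((a * w * a⁻¹) * (a * w * a⁻¹)) := by group
        _ = _ := by rw [← pow_two, hWe _ (hnorm w hw a), mul_one]
    exact (mul_inv_eq_iff_eq_mul.1 h3).symm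
  have hCW : C ≤ W := by
    by_contra hnot
    obtain ⟨x, hxC, -, hxW, -, hx⟩ := exists_step h2 ⊤ C W (by
      obtain ⟨x, hx, hxW⟩ := SetLike.not_le_iff_exists.1 hnot
      exact ⟨x, hx, Subgroup.mem_top x, hxW⟩)
    obtain ⟨w, hw, hwa⟩ := hlift x (hx a (Subgroup.mem_top a))
    have := hfix _ (C.mul_mem hxC (mem_centralizer'.2 (hWc w hw))) hwa
    exact hxW (by simpa using mul_mem this (inv_mem hw))
  set π := QuotientGroup.mk' W with hπ
  have hπW : ∀ g, π g = 1 ↔ g ∈ W := fun g => QuotientGroup.eq_one_iff g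
  have hπc : ∀ g x : G, Commute (π g) (π x) → g⁻¹ * (x * g * x⁻¹) ∈ W := fun g x h => by
    rw [← hπW, map_mul, map_mul, map_mul, map_inv, map_inv, h.symm.eq, mul_inv_cancel_right,
      inv_mul_cancel]
  have hWne : W ≠ ⊤ := fun h => haW (h ▸ Subgroup.mem_top a)
  -- the central involution of the quotient commutes with the image of `A`
  have key : (∃ t : G ⧸ W, Nat.card (Subgroup.centralizer ({t} : Set (G ⧸ W))) ≤ 4) ∧
      ∀ c : G, c ∉ W → (∀ g, c⁻¹ * (g * c * g⁻¹) ∈ W) →
        Nat.card (W ⊓ Subgroup.centralizer {c} : Subgroup G) ≤ 4 := by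
    have hmove : ∀ c g, g ∈ W → Nat.card (W ⊓ Subgroup.centralizer {c * g} : Subgroup G) ≤ 4 →
        Nat.card (W ⊓ Subgroup.centralizer {c} : Subgroup G) ≤ 4 := fun c g hg h => by
      refine le_trans (Subgroup.card_le_of_le fun w hw => ?_) h
      exact ⟨hw.1, Subgroup.mem_centralizer_singleton_iff.2 ((Commute.mul_right
        (Subgroup.mem_centralizer_singleton_iff.1 hw.2 : Commute w c) (hWc w hw.1 g hg)).eq)⟩
    rcases hk12 with hk' | hk'
    · obtain ⟨b, hbA, hbL, u, hu, huz⟩ := htwo hk'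
      have hlift2 : ∀ g, g⁻¹ * (a * g * a⁻¹) ∈ W → g⁻¹ * (b * g * b⁻¹) ∈ W →
          ∃ w ∈ W, g * w ∈ A := by
        intro g hga hgb
        obtain ⟨w, hw, hwa⟩ := hlift g hga
        set m := g * w with hm
        have hba : Commute b a := hAc b hbA a haA
        set v := m⁻¹ * (b * m * b⁻¹) with hv
        have hvW : v ∈ W := by
          have h := W.mul_mem (W.mul_mem (W.inv_mem hw) hgb) (hnorm w hw b)
          rwa [show w⁻¹ * (g⁻¹ * (b * g * b⁻¹)) * (b * w * b⁻¹) = v by rw [hv, hm]; group] at h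
        have hvinv : v⁻¹ = v := inv_eq_of_mul_eq_one_left (by rw [← pow_two]; exact hWe v hvW)
        have hva : Commute v a :=
          hwa.inv_left.mul_left (((hba.mul_left hwa).mul_left hba.inv_left))
        have hvb : Commute v b := by
          have h1 : b * v * b⁻¹ = v := by
            conv_rhs => rw [← hvinv]
            calc b * v * b⁻¹ = (b * m⁻¹ * b⁻¹) * ((b * b) * m * (b * b)⁻¹) := by rw [hv]; group
              _ = _ := by rw [hsq1 b hbA, hv]; group
          exact (mul_inv_eq_iff_eq_mul.1 h1).symm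
        have hvF : v ∈ F := ⟨hvW, hgenA a haA haW b hbA hbL v (hFc v hvW) hva hvb⟩
        have hmF : ∀ f ∈ F, Commute m f := fun f hf => by
          rcases hF2 hk' f hf with rfl | rfl
          exacts [Commute.one_right m, hzc m]
        rcases hF2 hk' v hvF with h1 | h1
        · have hmb : Commute m b :=
            ((mul_inv_eq_iff_eq_mul.1 (inv_mul_eq_one.1 h1).symm).symm : m * b = b * m)
          exact ⟨w, hw, hgenA a haA haW b hbA hbL m hmF hwa hmb⟩
        · have hmub : Commute (m * u) b := by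
            have h3 : b * (m * u) * b⁻¹ = m * u := by
              calc b * (m * u) * b⁻¹ = m * v * (b * u * b⁻¹) := by rw [hv]; group
                _ = m * (u * (b * u * b⁻¹)) * (b * u * b⁻¹) := by rw [h1, huz]
                _ = m * u * ((b * u * b⁻¹) * (b * u * b⁻¹)) := by group
                _ = _ := by rw [← pow_two, hWe _ (hnorm u hu.1 b), mul_one]
            exact (mul_inv_eq_iff_eq_mul.1 h3).symm
          refine ⟨w * u, mul_mem hw hu.1, ?_⟩
          rw [← mul_assoc]
          exact hgenA a haA haW b hbA hbL (m * u)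
            (fun f hf => (hmF f hf).mul_left (hFc u hu.1 f hf))
            (hwa.mul_left (Subgroup.mem_centralizer_singleton_iff.1 hu.2)) hmub
      refine ⟨?_, fun c hcW hc => ?_⟩
      · refine exists_small (h2.to_quotient W) (V := A.map π) ?_ ?_ ?_
        · have h1 := (π.comp A.subtype).ker.card_mul_index
          rw [Subgroup.index_ker, MonoidHom.range_comp, Subgroup.range_subtype, hA8] at h1
          have h3 : 2 ≤ Nat.card (π.comp A.subtype).ker := by
            rw [show (2 : ℕ) = Nat.card F by rw [hk, hk', pow_one]]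
            exact Nat.card_le_card_of_injective (fun f : F => (⟨⟨f.1, f.2.2⟩,
              MonoidHom.mem_ker.2 ((hπW _).2 f.2.1)⟩ : (π.comp A.subtype).ker)) fun p q hpq =>
              Subtype.ext (congrArg (fun r => (r.1 : A).1) hpq)
          have := Nat.mul_le_mul_right (Nat.card (A.map π)) h3
          omega
        · rintro _ ⟨x, hx, rfl⟩ _ ⟨y, hy, rfl⟩
          exact (hAc x hx y hy).map π
        · intro q hq
          obtain ⟨g, rfl⟩ := QuotientGroup.mk'_surjective W q
          have hq' := mem_centralizer'.1 hq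
          obtain ⟨w, hw, hgw⟩ := hlift2 g (hπc _ _ (hq' _ ⟨a, haA, rfl⟩))
            (hπc _ _ (hq' _ ⟨b, hbA, rfl⟩))
          exact ⟨g * w, hgw, by rw [map_mul, (hπW w).2 hw, mul_one]⟩
      · obtain ⟨w, hw, hcw⟩ := hlift2 c (hc a) (hc b)
        exact hmove c w hw (hfix4 _ hcw fun h => hcW (by simpa using mul_mem h (inv_mem hw)))
    · have hCa16 : Nat.card (Subgroup.centralizer ({a} : Set G)) ≤ 16 := by
        set Ca := Subgroup.centralizer ({a} : Set G) with hCa
        set Y := Subgroup.centralizer (F : Set G) with hY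
        have hFn : ∀ g ∈ Ca, ∀ f ∈ F, g * f * g⁻¹ ∈ F := fun g hg f hf => by
          refine hUsub hk' ▸ ⟨hnorm f hf.1 g, Subgroup.mem_centralizer_singleton_iff.2 ?_⟩
          have hga : Commute g a := Subgroup.mem_centralizer_singleton_iff.1 hg
          exact ((hga.mul_left (hAc f hf.2 a haA)).mul_left hga.inv_left).eq
        obtain ⟨f₁, hf₁, hf₁z⟩ : ∃ f₁ ∈ (F : Set G) \ {1, z}, True := by
          obtain ⟨f₁, h⟩ := Set.nonempty_of_ncard_ne_zero (s := (F : Set G) \ {1, z}) (by
            rw [Set.ncard_diff (by rintro x (rfl | rfl); exacts [one_mem F, hzF]),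
              Set.ncard_pair hz1.symm, ← Nat.card_coe_set_eq]
            change Nat.card F - 2 ≠ 0
            rw [hk, hk']
            norm_num)
          exact ⟨f₁, h, trivial⟩
        have hgenF : ∀ g, Commute g f₁ → ∀ f ∈ F, Commute g f := by
          intro g hg f hf
          set X := F ⊓ Subgroup.centralizer {g} with hX
          have h3 : 3 ≤ Nat.card X := by
            rw [show Nat.card X = (X : Set G).ncard from Nat.card_coe_set_eq _]
            have hsub : ({1, z, f₁} : Set G) ⊆ (X : Set G) := by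
              rintro x (rfl | rfl | rfl)
              exacts [one_mem X, ⟨hzF, Subgroup.mem_centralizer_singleton_iff.2 (hzc g).symm.eq⟩,
                ⟨hf₁.1, Subgroup.mem_centralizer_singleton_iff.2 hg.symm.eq⟩]
            have := Set.ncard_le_ncard hsub (Set.toFinite _)
            rw [Set.ncard_insert_of_notMem (by
              simp only [Set.mem_insert_iff, Set.mem_singleton_iff, not_or]
              exact ⟨hz1.symm, fun h => hf₁.2 (Or.inl h.symm)⟩),
              Set.ncard_pair (fun h => hf₁.2 (Or.inr h.symm))] at this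
            exact this
          have hXF : X = F := by
            refine Subgroup.eq_of_le_of_card_ge inf_le_left ?_
            obtain ⟨i, hi⟩ := IsPGroup.iff_card.1 (h2.to_subgroup X)
            rw [hi] at h3
            rw [hk, hk', hi]
            exact Nat.pow_le_pow_right (show 0 < 2 by norm_num) (by
              by_contra h
              have := Nat.pow_le_pow_right (show 0 < 2 by norm_num) (show i ≤ 1 by omega)
              omega)
          exact (Subgroup.mem_centralizer_singleton_iff.1 ((hXF.symm ▸ hf : f ∈ X).2)).symm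
        have htgt : ((F : Set G) \ {1, z}).ncard = 2 := by
          rw [Set.ncard_diff (by rintro x (rfl | rfl); exacts [one_mem F, hzF]),
            Set.ncard_pair hz1.symm, ← Nat.card_coe_set_eq]
          change Nat.card F - 2 = 2
          rw [hk, hk']
          norm_num
        let Φ : Ca ⧸ A.subgroupOf Ca → ((F : Set G) \ {1, z} : Set G) := fun q =>
          ⟨(q.out : G) * f₁ * (q.out : G)⁻¹, hFn _ q.out.2 f₁ hf₁.1, fun h => hf₁.2 (by
            rcases h with h | h
            · exact Or.inl (conj_eq_one_iff.1 h)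
            · right
              rw [Set.mem_singleton_iff] at h ⊢
              exact mul_left_cancel (mul_right_cancel (h.trans (by
                rw [(hzc (q.out : G)).eq, mul_inv_cancel_right]))))⟩
        have hΦ : Function.Injective Φ := by
          intro p q hpq
          have h := congrArg Subtype.val hpq
          rw [← QuotientGroup.out_eq' p, ← QuotientGroup.out_eq' q, QuotientGroup.eq,
            Subgroup.mem_subgroupOf]
          refine hfour hk' _ (hgenF _ ?_) ?_
          · simp only [Subgroup.coe_mul, InvMemClass.coe_inv]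
            rw [Commute, SemiconjBy, ← mul_inv_eq_iff_eq_mul]
            calc (p.out : G)⁻¹ * q.out * f₁ * ((p.out : G)⁻¹ * q.out)⁻¹
                = (p.out : G)⁻¹ * ((q.out : G) * f₁ * (q.out : G)⁻¹) * p.out := by group
              _ = (p.out : G)⁻¹ * ((p.out : G) * f₁ * (p.out : G)⁻¹) * p.out := by
                rw [show (q.out : G) * f₁ * (q.out : G)⁻¹ = (p.out : G) * f₁ * (p.out : G)⁻¹ from
                  h.symm]
              _ = f₁ := by group
          · exact Subgroup.mem_centralizer_singleton_iff.1 (p.out⁻¹ * q.out).2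
        rw [← (A.subgroupOf Ca).card_mul_index]
        refine (Nat.mul_le_mul (?_ : _ ≤ 8) (?_ : _ ≤ 2)).trans le_rfl
        · refine le_of_le_of_eq ?_ hA8
          exact Nat.card_le_card_of_injective (fun x => (⟨x.1.1, x.2⟩ : A))
            fun x y hxy => Subtype.ext (Subtype.ext (congrArg (fun q : A => q.1) hxy))
        · refine le_of_le_of_eq (Nat.card_le_card_of_injective Φ hΦ) ?_
          rw [Nat.card_coe_set_eq, htgt]
      refine ⟨⟨π a, ?_⟩, fun c hcW hc => ?_⟩
      · have h1 : Subgroup.centralizer ({π a} : Set (G ⧸ W)) ≤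
            (Subgroup.centralizer ({a} : Set G)).map π := by
          intro q hq
          obtain ⟨g, rfl⟩ := QuotientGroup.mk'_surjective W q
          obtain ⟨w, hw, hgw⟩ := hlift g
            (hπc g a (Subgroup.mem_centralizer_singleton_iff.1 hq))
          exact ⟨g * w, Subgroup.mem_centralizer_singleton_iff.2 hgw.eq,
            by rw [map_mul, (hπW w).2 hw, mul_one]⟩
        refine (Subgroup.card_le_of_le h1).trans ?_
        set f := π.comp (Subgroup.centralizer ({a} : Set G)).subtype with hf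
        have h3 := f.ker.card_mul_index
        rw [Subgroup.index_ker, hf, MonoidHom.range_comp, Subgroup.range_subtype] at h3
        have h4 : 4 ≤ Nat.card f.ker := by
          rw [← hUeq]
          exact Nat.card_le_card_of_injective (fun u : U => (⟨⟨u.1, u.2.2⟩,
            MonoidHom.mem_ker.2 ((hπW _).2 u.2.1)⟩ : f.ker)) fun p q hpq =>
            Subtype.ext (congrArg (fun r => (r.1 : Subgroup.centralizer ({a} : Set G)).1) hpq)
        rw [hf] at h4
        have := Nat.mul_le_mul_right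
          (Nat.card ((Subgroup.centralizer ({a} : Set G)).map π)) h4
        omega
      · obtain ⟨w, hw, hga⟩ := hlift c (hc a)
        refine hmove c w hw ?_
        set g := c * w with hg
        have hgW : g ∉ W := fun h => hcW (by simpa [hg] using mul_mem h (inv_mem hw))
        by_cases hgA : g ∈ A
        · exact hfix4 g hgA hgW
        set X := W ⊓ Subgroup.centralizer {g} with hX
        have hXn : ∀ x ∈ X, a * x * a⁻¹ ∈ X := fun x hx => ⟨hnorm x hx.1 a,
          Subgroup.mem_centralizer_singleton_iff.2 (by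
            calc a * x * a⁻¹ * g = a * (x * g) * a⁻¹ := by
                  rw [mul_assoc (a * x), hga.symm.inv_left.eq]; group
              _ = a * (g * x) * a⁻¹ := by rw [Subgroup.mem_centralizer_singleton_iff.1 hx.2]
              _ = _ := by rw [← mul_assoc a g x, hga.symm.eq]; group)⟩
        refine (fixed_sq (a := a) (X := X) (fun x hx y hy => hWc x hx.1 y hy.1)
          (fun x hx => hWe x hx.1) hXn fun x _ => by rw [haa]; exact Commute.one_left x).trans ?_
        set Y := X ⊓ Subgroup.centralizer {a} with hY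
        have hYF : Y ≤ F := fun x hx => hUsub hk' ▸ ⟨hx.1.1, hx.2⟩
        have hlt : Nat.card Y < 4 := by
          have h4 : Nat.card F = 4 := by rw [hk, hk']; rfl
          refine h4 ▸ (Subgroup.card_le_of_le hYF).lt_of_ne fun he => hgA ?_
          refine hfour hk' g (fun f hf => ?_) hga
          have := Subgroup.eq_of_le_of_card_ge hYF he.ge
          exact (Subgroup.mem_centralizer_singleton_iff.1 ((this.symm ▸ hf : f ∈ Y).1.2)).symm
        obtain ⟨i, hi⟩ := IsPGroup.iff_card.1 (h2.to_subgroup Y)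
        rw [hi] at hlt ⊢
        have hi1 : i < 2 := (Nat.pow_lt_pow_iff_right (by norm_num)).1 (show 2 ^ i < 2 ^ 2 from hlt)
        have := Nat.pow_le_pow_right (show 0 < 2 by norm_num) (show i ≤ 1 by omega)
        exact Nat.mul_le_mul this this
  obtain ⟨c, hc⟩ := exists_thin h2 W hWne key.1
  exact sixteen_case h2 hWc hWe hWeq hCW hc (key.2 c hc.1 hc.2.2.1) H

end Cfsg.Agent.Solv.SelfCentEight
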